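import Cfsg.Agent.H680.Cov.SU6.Res_m3
import Cfsg.Agent.H424.Spr.Two
import Cfsg.Agent.H918.UProper
import Cfsg.Agent.S0283
import Cfsg.Agent.StandardComponent.AltAut
import Cfsg.Agent.S5784
import Cfsg.Agent.S0815
import Cfsg.Agent.S0280
import Cfsg.Agent.FastGrp
import Cfsg.Agent.Prune
set_option linter.all false
prune_inst 0x7f00000000000000000000000000000000000000000000000000000000000000000000000000000000000000000000000000000000000000000000000000000000000000000000000000000000000000003fffffffffffffffffffffffffffbeffbdffffffff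
open scoped Cfsg.Agent.FastGrp

-- part: H833/Spr4/Basic
section
/-!
# S3938, `PSU_4(q)`: tools

* `spr_one_of`, `spr_two_of` : the criteria `U1`, `U2` in `GL_n(q²)`, for maximal subgroups of `SU_n(q)`;
* `hna_psu` : `PSU_n(q)` is not commutative;
* `perm_seven` : elements of order divisible by 7 or 9 in `S_7`.
-/

set_option autoImplicit false
set_option linter.unusedSectionVars false

namespace Cfsg.Agent.H833.Spr4

open Cfsg Cfsg.Geo Module Cfsg.Agent.H918 Cfsg.Agent.H251 Cfsg.Agent.H951 Cfsg.Agent.H834.Cov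
open Cfsg.Agent.H424.Spr (Spr)
open scoped Matrix MatrixGroups

section crit

variable {F : Type} [Field F] [Fintype F] {n q : ℕ}

theorem hna_psu (hF : Fintype.card F = q ^ 2) (hn : 3 ≤ n) (h32 : ¬ (n = 3 ∧ q = 2)) [IsSimpleGroup (PSU n F q)] :
    ∃ x y : PSU n F q, x * y ≠ y * x := by
  by_contra hcon
  push Not at hcon
  have h1 := Cfsg.Agent.LieClassical.HermPerfect.commutator_SU_eq_top hF hn h32
  have h2 : commutator (Cfsg.SU n F q) ≤ Subgroup.center (Cfsg.SU n F q) := by
    rw [commutator_def, Subgroup.commutator_le]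
    intro g _ h _
    rw [← QuotientGroup.eq_one_iff, commutatorElement_def]
    change (QuotientGroup.mk' (Subgroup.center (Cfsg.SU n F q))) (g * h * g⁻¹ * h⁻¹) = 1
    rw [map_mul, map_mul, map_mul, map_inv, map_inv, hcon _ ((QuotientGroup.mk' _) h)]
    group
  rw [h1] at h2
  obtain ⟨x, hx⟩ := exists_ne (1 : PSU n F q)
  obtain ⟨y, rfl⟩ := QuotientGroup.mk_surjective x
  exact hx ((QuotientGroup.eq_one_iff y).2 (h2 (Subgroup.mem_top _)))

/-- the proper subgroups of `SU_n(q)` through `s` are in one of the groups `M i` -/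
theorem cover_of {s : Cfsg.SU n F q} {ι : Type} {M : ι → Subgroup (GL (Fin n) F)}
    (h : ∀ H, IsMaximalIn (SUg n F q) H → suHom n F q s ∈ H → ∃ i, H ≤ M i) (K : Subgroup (Cfsg.SU n F q))
    (hs : s ∈ K) (hK : K ≠ ⊤) : ∃ i, K ≤ (M i).comap (suHom n F q) := by
  have hfin : Finite (Cfsg.SU n F q) := inferInstance
  obtain ⟨N, hN, hKN⟩ := (eq_top_or_exists_le_coatom K).resolve_left hK
  obtain ⟨i, hi⟩ := h _ (isMaximalIn_map suHom_injective range_suHom hN) ⟨s, hKN hs, rfl⟩
  exact ⟨i, hKN.trans (Subgroup.map_le_iff_le_comap.1 hi)⟩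

theorem ker_le_of [IsSimpleGroup (PSU n F q)] (hna : ∃ x y : PSU n F q, x * y ≠ y * x) (s : Cfsg.SU n F q) :
    Subgroup.zpowers s ⊔ Subgroup.center (Cfsg.SU n F q) ≠ ⊤ := by
  intro htop
  obtain ⟨x, y, hxy⟩ := hna
  apply hxy
  have h1 : ∀ z : PSU n F q, z ∈ Subgroup.zpowers (QuotientGroup.mk' (Subgroup.center (Cfsg.SU n F q)) s) := by
    intro z
    obtain ⟨w, rfl⟩ := QuotientGroup.mk'_surjective _ z
    have h2 : w ∈ Subgroup.zpowers s ⊔ Subgroup.center (Cfsg.SU n F q) := by rw [htop]; trivial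
    rw [Subgroup.mem_sup_of_normal_right] at h2
    obtain ⟨a, ⟨k, rfl⟩, b, hb, rfl⟩ := h2
    rw [map_mul]
    have h3 : (QuotientGroup.mk' (Subgroup.center (Cfsg.SU n F q))) b = 1 := (QuotientGroup.eq_one_iff b).2 hb
    rw [h3, mul_one, map_zpow]
    exact Subgroup.zpow_mem _ (Subgroup.mem_zpowers _) _
  obtain ⟨i, rfl⟩ := h1 x
  obtain ⟨j, rfl⟩ := h1 y
  exact ((Commute.refl _).zpow_zpow i j)

/-- **U1 for `PSU_n(q)`** -/
theorem spr_one_of (hF : Fintype.card F = q ^ 2) (hn : 3 ≤ n) (h32 : ¬ (n = 3 ∧ q = 2)) {s : GL (Fin n) F}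
    (hs : s ∈ SUg n F q) {M : Subgroup (GL (Fin n) F)} (hM : ¬ SUg n F q ≤ M)
    (h : ∀ H, IsMaximalIn (SUg n F q) H → s ∈ H → H ≤ M) : Spr (PSU n F q) := by
  have hfin : Finite (Cfsg.SU n F q) := inferInstance
  have hsim := Cfsg.Agent.S0283.result hF n hn h32
  have hna := hna_psu hF hn h32
  obtain ⟨s', rfl⟩ := exists_suHom hs
  have key : ∀ K : Subgroup (Cfsg.SU n F q), s' ∈ K → K ≠ ⊤ → K ≤ M.comap (suHom n F q) := by
    intro K hsK hK
    obtain ⟨-, hi⟩ := cover_of (ι := Unit) (M := fun _ => M) (fun H hH hsH => ⟨(), h H hH hsH⟩) K hsK hK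
    exact hi
  refine H424.Spr.spr_of_one_up (G := Cfsg.SU n F q) hna (QuotientGroup.mk' _) (QuotientGroup.mk'_surjective _) (s := s')
    (M := M.comap (suHom n F q)) ?_ ?_ ?_
  · rw [QuotientGroup.ker_mk']
    exact le_sup_right.trans (key _ (Subgroup.mem_sup_left (Subgroup.mem_zpowers s')) (ker_le_of hna s'))
  · intro htop
    apply hM
    rw [← range_suHom]
    rintro _ ⟨A, rfl⟩
    have : A ∈ M.comap (suHom n F q) := by rw [htop]; trivial
    exact this
  · intro K _ hsK hK
    exact key K hsK hK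

end crit

section perm

theorem perm_seven (y : Equiv.Perm (Fin 7)) {m : ℕ} (hm : m ∣ orderOf y) (h : m = 7 ∨ m = 9) :
    m = 7 ∧ orderOf y = 7 := by
  have h0 : m ∣ y.cycleType.lcm := by rwa [Equiv.Perm.lcm_cycleType]
  have hsum : y.cycleType.sum ≤ 7 := by
    have := Equiv.Perm.sum_cycleType y
    rw [this]
    exact (Finset.card_le_univ _).trans (by simp)
  -- a prime power divides a part
  have hpart : ∃ k ∈ y.cycleType, m ∣ k := by
    have hpp : ∃ p a : ℕ, p.Prime ∧ m = p ^ a := by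
      rcases h with rfl | rfl
      · exact ⟨7, 1, by norm_num, by norm_num⟩
      · exact ⟨3, 2, by norm_num, by norm_num⟩
    obtain ⟨p, a, hp, rfl⟩ := hpp
    have hcyc : ∀ s : Multiset ℕ, (0 ∉ s) → p ^ a ∣ s.lcm → a = 0 ∨ ∃ k ∈ s, p ^ a ∣ k := by
      intro s
      induction s using Multiset.induction_on with
      | empty =>
        intro _ h1
        left
        rw [Multiset.lcm_zero] at h1
        have := Nat.dvd_one.1 h1
        rcases Nat.pow_eq_one.1 this with h2 | h2
        · exact absurd h2 hp.one_lt.ne'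
        · exact h2
      | cons b s ih =>
        intro hb h1
        rw [Multiset.lcm_cons] at h1
        have hb0 : b ≠ 0 := fun h => hb (by rw [h]; exact Multiset.mem_cons_self _ _)
        have hs0 : 0 ∉ s := fun h => hb (Multiset.mem_cons_of_mem h)
        have h2 : p ^ a ∣ b ∨ p ^ a ∣ s.lcm := by
          have hl0 : s.lcm ≠ 0 := by
            rw [Ne, Multiset.lcm_eq_zero_iff]
            exact hs0
          rw [hp.pow_dvd_iff_le_factorization hb0, hp.pow_dvd_iff_le_factorization hl0]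
          have h3 : Nat.lcm b s.lcm ≠ 0 := Nat.lcm_ne_zero hb0 hl0
          have h4 := (hp.pow_dvd_iff_le_factorization h3).1 h1
          rw [Nat.factorization_lcm hb0 hl0] at h4
          rwa [Finsupp.sup_apply, le_sup_iff] at h4
        rcases h2 with h2 | h2
        · exact Or.inr ⟨b, Multiset.mem_cons_self _ _, h2⟩
        · rcases ih hs0 h2 with h3 | ⟨k, hk, h3⟩
          · exact Or.inl h3
          · exact Or.inr ⟨k, Multiset.mem_cons_of_mem hk, h3⟩
    rcases hcyc _ (fun h1 => by have := Equiv.Perm.two_le_of_mem_cycleType h1; omega) h0 with h1 | h1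
    · exfalso
      subst h1
      rw [pow_zero] at h
      omega
    · exact h1
  obtain ⟨k, hk, hmk⟩ := hpart
  have hk2 := Equiv.Perm.two_le_of_mem_cycleType hk
  have hkle : k ≤ y.cycleType.sum := Multiset.single_le_sum (fun _ _ => Nat.zero_le _) _ hk
  have hmle := Nat.le_of_dvd (by omega) hmk
  rcases h with rfl | rfl
  · have hk7 : k = 7 := by
      obtain ⟨c, hc⟩ := hmk
      have : c = 1 := by linarith only [hsum, hkle, hmle, hc]
      omega
    subst hk7
    refine ⟨rfl, ?_⟩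
    obtain ⟨t, ht⟩ := Multiset.exists_cons_of_mem hk
    have ht0 : t = 0 := by
      rw [ht, Multiset.sum_cons] at hsum
      have hts : t.sum = 0 := by omega
      by_contra hne
      obtain ⟨b, hb⟩ := Multiset.exists_mem_of_ne_zero hne
      have hb2 : 2 ≤ b := Equiv.Perm.two_le_of_mem_cycleType (σ := y) (by rw [ht]; exact Multiset.mem_cons_of_mem hb)
      have : b ≤ t.sum := Multiset.single_le_sum (fun _ _ => Nat.zero_le _) _ hb
      omega
    rw [← Equiv.Perm.lcm_cycleType, ht, ht0]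
    rfl
  · omega

end perm

end Cfsg.Agent.H833.Spr4
end

-- part: H833/Spr4/Gen
section
/-!
# S3938: `Spr (PSU_4(q))`, `q ≥ 4`
-/

set_option autoImplicit false
set_option linter.unusedSectionVars false

namespace Cfsg.Agent.H833.Spr4

open Cfsg Cfsg.Geo Module Cfsg.Agent.H918 Cfsg.Agent.H251 Cfsg.Agent.H251.GeoCard Cfsg.Agent.H951
open Cfsg.Agent.H834.Cov
open Cfsg.Agent.H674.SUBlock Cfsg.Agent.LieClassical
open Cfsg.Agent.H424.Spr (Spr)
open scoped Matrix MatrixGroups

/-- the content of S5785 -/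
def ResList (F : Type) [Field F] [Fintype F] (q : ℕ) : Prop :=
  ∀ H : Subgroup (GL (Fin 4) F), IsMaximalIn (SUg 4 F q) H → InUnitaryResidualClass H →
    ∃ P : Subgroup (GL (Fin 4) F), IsResidualCore H P ∧ q.Prime ∧
    ((Nonempty ((P ⧸ (scalars (Fin 4) F).subgroupOf P) ≃* alternatingGroup (Fin 7)) ∧
        (q % 7 = 3 ∨ q % 7 = 5 ∨ q % 7 = 6)) ∨
     ((∃ (K : Type) (_ : Field K) (_ : Fintype K), Fintype.card K = 4 ∧
        Nonempty ((P ⧸ (scalars (Fin 4) F).subgroupOf P) ≃* Matrix.ProjectiveSpecialLinearGroup (Fin 3) K)) ∧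
        q = 3) ∨
     ((∃ (K : Type) (_ : Field K) (_ : Fintype K), Fintype.card K = 4 ∧
        Nonempty ((P ⧸ (scalars (Fin 4) F).subgroupOf P) ≃* Cfsg.PSU 4 K 2)) ∧ q % 6 = 5))

section Aut

/-- prime divisors of `|Aut(U_4(2))|` -/
theorem prime_aut_u42 {S : Type*} [Group S] {K : Type} [Field K] [Fintype K] (hK : Fintype.card K = 4)
    (e : S ≃* Cfsg.PSU 4 K 2) {s : ℕ} (hs : s.Prime) (h : s ∣ Nat.card (MulAut S)) : s ≤ 5 := by
  have hK' : Fintype.card K = 2 ^ 2 := by rw [hK]; norm_num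
  have hf2 : Fact (Nat.Prime 2) := ⟨Nat.prime_two⟩
  rw [Nat.card_congr (MulAut.congr e).toEquiv, Cfsg.Agent.S0815.result (F := K) 2 1 le_rfl (q := 2) (by norm_num) hK' 4
    (by norm_num) (by norm_num)] at h
  have hc := S0280.result (F := K) (q := 2) hK' 4 (by norm_num)
  simp only [Finset.prod_range_succ, Finset.prod_range_zero] at hc
  generalize Nat.card (PSU 4 K 2) = N at hc h
  have hN : N = 25920 := by
    have h1 : Nat.gcd 4 (2 + 1) = 1 := by decide
    rw [h1] at hc
    norm_num at hc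
    have h2 : (if Even (3 + 1) then (15 : ℕ) else 17) = 15 := by decide
    omega
  subst hN
  have h1 : Nat.gcd 4 (2 + 1) = 1 := by decide
  rw [h1] at h
  have h2 : s ∣ 2 ^ 7 * 3 ^ 4 * 5 := by norm_num at h ⊢; exact h
  rcases hs.dvd_mul.1 h2 with h3 | h3
  · rcases hs.dvd_mul.1 h3 with h4 | h4
    · have := Nat.le_of_dvd (by norm_num) (hs.dvd_of_dvd_pow h4); omega
    · have := Nat.le_of_dvd (by norm_num) (hs.dvd_of_dvd_pow h4); omega
  · exact Nat.le_of_dvd (by norm_num) h3

end Aut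

section core

variable {F : Type} [Field F] [Fintype F]

theorem core_alt7 {H P : Subgroup (GL (Fin 4) F)} (hP : IsResidualCore H P)
    (e : Nonempty ((P ⧸ (scalars (Fin 4) F).subgroupOf P) ≃* alternatingGroup (Fin 7))) {x : GL (Fin 4) F}
    (hx : x ∈ H) {m : ℕ} (hm : m = 7 ∨ m = 9) (hdvd : ∀ k : ℕ, x ^ k ∈ scalars (Fin 4) F → m ∣ k) :
    m = 7 ∧ x ^ 7 ∈ scalars (Fin 4) F := by
  obtain ⟨e⟩ := e
  obtain ⟨φ, hφ⟩ := H900.SU4.exists_core_inj hP
  obtain ⟨ψ, hψ⟩ := StandardComponent.AltAut.exists_autHom 7 le_rfl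
  have hψi : Function.Injective ψ := by
    rw [injective_iff_map_eq_one]
    intro a ha
    ext1 y
    have h1 := hψ a y
    rw [ha, one_mul, inv_one, mul_one] at h1
    exact Subtype.ext h1
  set θ : (H ⧸ (scalars (Fin 4) F).subgroupOf H) →* Equiv.Perm (Fin 7) :=
    ψ.comp ((MulAut.congr e).toMonoidHom.comp φ) with hθ
  have hθi : Function.Injective θ := hψi.comp ((MulAut.congr e).injective.comp hφ)
  set c : H ⧸ (scalars (Fin 4) F).subgroupOf H := QuotientGroup.mk' _ ⟨x, hx⟩ with hc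
  have hpow : ∀ k : ℕ, c ^ k = 1 → x ^ k ∈ scalars (Fin 4) F := by
    intro k hk
    rw [hc, ← map_pow] at hk
    have h1 := (QuotientGroup.eq_one_iff _).1 hk
    exact Subgroup.mem_subgroupOf.1 h1
  have h1 : m ∣ orderOf (θ c) := by
    rw [orderOf_injective θ hθi]
    exact hdvd _ (hpow _ (pow_orderOf_eq_one c))
  obtain ⟨h2, h3⟩ := perm_seven (θ c) h1 hm
  refine ⟨h2, hpow 7 ?_⟩
  rw [orderOf_injective θ hθi] at h3
  rw [← h3]
  exact pow_orderOf_eq_one c

end core

section main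

variable {F : Type} [Field F] [Fintype F] {q : ℕ}

theorem cases_of (hF : Fintype.card F = q ^ 2) {s p f : ℕ} (hp : p.Prime) (hq : q = p ^ f) (hf : 1 ≤ f)
    (hs : s.Prime) (hsiff : ∀ k, s ∣ p ^ k - 1 ↔ 2 * 3 * f ∣ k) (hsord : orderOf (-(q : ZMod s)) = 3)
    (hs7 : 7 ≤ s) (hR : ResList F q) {H : Subgroup (GL (Fin 4) F)} (hH : IsMaximalIn (SUg 4 F q) H)
    {x : GL (Fin 4) F} (hx : x ∈ H) (hxo : orderOf x = s) :
    (∃ W : Submodule F (Fin 4 → F), finrank F W = 1 ∧ IsNondegenerateOn (hermForm 4 F q) W ∧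
      H ≤ subspaceStabilizer W) ∨
    (∃ P : Subgroup (GL (Fin 4) F), s = 7 ∧ IsResidualCore H P ∧
      Nonempty ((P ⧸ (scalars (Fin 4) F).subgroupOf P) ≃* alternatingGroup (Fin 7))) ∨
    (∃ P : Subgroup (GL (Fin 4) F), q = 3 ∧ IsResidualCore H P ∧
      ∃ (K : Type) (_ : Field K) (_ : Fintype K), Fintype.card K = 4 ∧
        Nonempty ((P ⧸ (scalars (Fin 4) F).subgroupOf P) ≃* Matrix.ProjectiveSpecialLinearGroup (Fin 3) K)) := by
  have hfs := Fact.mk hs
  have hsH : s ∣ Nat.card H := by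
    rw [← hxo, ← Subgroup.orderOf_mk x hx]
    exact orderOf_dvd_natCard _
  rcases Cfsg.Agent.S5784.result q hF H hH with h | h | h | h | h | h | h | h | h | h
  · obtain ⟨W, hW0, hW, rfl⟩ := h
    exact (GeoU.kill_ts hF hs hsord (by decide) (by norm_num) (by norm_num) hW0 hW
      (hsH.trans (Subgroup.card_dvd_of_le (inf_le_inf_left _ inf_le_left)))).elim
  · obtain ⟨W, hW0, hW, hW2, rfl⟩ := h
    have := GeoU.kill_nd hF hs hsord (by decide) (by norm_num) (by norm_num) hW0 hW2
      (hsH.trans (Subgroup.card_dvd_of_le (inf_le_inf_left _ inf_le_left)))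
    exact Or.inl ⟨W, this.2, hW, inf_le_left⟩
  · obtain ⟨-, D, hD, rfl⟩ := h
    exact (decomp_kill hF hs hsord (by decide) (by norm_num) (by omega) (by norm_num) hD.decomp
      (GeoU.dvd_left hsH)).elim
  · obtain ⟨-, D, hD, rfl⟩ := h
    exact (decomp_kill hF hs hsord (by decide) (by norm_num) (by omega) (by norm_num) hD.decomp
      (GeoU.dvd_left hsH)).elim
  · obtain ⟨-, D, hD, -, rfl⟩ := h
    exact (decomp_kill hF hs hsord (by decide) (by norm_num) (by omega) (by norm_num) hD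
      (GeoU.dvd_left hsH)).elim
  · obtain ⟨F₀, r', P, hr', hro, hcd, -, rfl⟩ := h
    exact (subfield_kill hF hp hq hf hs hsiff hsord (by decide) (by norm_num) (by norm_num) hr'.two_le hcd
      (GeoU.dvd_left hsH)).elim
  · obtain ⟨F₀, P, ζ, hcd, -, -, -, -, rfl⟩ := h
    exact (subfield_kill hF hp hq hf hs hsiff hsord (by decide) (by norm_num) (by norm_num) le_rfl hcd
      (GeoU.dvd_left hsH)).elim
  · obtain ⟨-, F₀, P, hcd, -, rfl⟩ := h
    exact (subfield_kill hF hp hq hf hs hsiff hsord (by decide) (by norm_num) (by norm_num) le_rfl hcd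
      (GeoU.dvd_left hsH)).elim
  · obtain ⟨p', R, -, -, -, hR, habs, -, hRc, hRz, rfl⟩ := h
    refine (symp_kill (k := 2) hF hs hsord (by decide) (by norm_num) (by norm_num) (by omega) hR habs
      (Or.inr ⟨rfl, hRz, by rw [hRc]; norm_num⟩) (GeoU.dvd_left hsH)).elim
  · obtain ⟨P, hP, -, h1 | ⟨h1, h2⟩ | ⟨⟨K, i1, i2, hK, ⟨e⟩⟩, -⟩⟩ := hR H hH h
    · obtain ⟨⟨e⟩, -⟩ := h1
      have h1 := core_dvd (by norm_num) hP hs (by
        intro h
        have h1 : _root_.Cfsg.Agent.H251.GeoCard.Div s (q ^ 2) 1 := div_one le_rfl (by rwa [← GeoU.nat_card_eq hF])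
        have h2 := GeoU.ord_le_of_div (Nat.one_le_pow _ _ (LieClassical.HermBasic.q_pos hF)) h1
        rw [GeoU.ord_sq_odd hsord (by decide)] at h2
        omega) hx hxo
      obtain ⟨ψ, hψ⟩ := StandardComponent.AltAut.exists_autHom 7 le_rfl
      have hψi : Function.Injective ψ := by
        rw [injective_iff_map_eq_one]
        intro a ha
        ext1 y
        have h1 := hψ a y
        rw [ha, one_mul, inv_one, mul_one] at h1
        exact Subtype.ext h1
      rw [Nat.card_congr (MulAut.congr e).toEquiv] at h1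
      have h2 := h1.trans (Subgroup.card_dvd_of_injective ψ hψi)
      rw [Nat.card_eq_fintype_card, Fintype.card_perm, Fintype.card_fin] at h2
      have h3 : s ≤ 7 := (hs.dvd_factorial).1 h2
      exact Or.inr (Or.inl ⟨P, by omega, hP, ⟨e⟩⟩)
    · exact Or.inr (Or.inr ⟨P, h2, hP, h1⟩)
    · have h1 := core_dvd (by norm_num) hP hs (by
        intro h
        have h1 : _root_.Cfsg.Agent.H251.GeoCard.Div s (q ^ 2) 1 := div_one le_rfl (by rwa [← GeoU.nat_card_eq hF])
        have h2 := GeoU.ord_le_of_div (Nat.one_le_pow _ _ (LieClassical.HermBasic.q_pos hF)) h1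
        rw [GeoU.ord_sq_odd hsord (by decide)] at h2
        omega) hx hxo
      have := prime_aut_u42 hK e hs h1
      omega

/-- **`Spr (PSU_4(q))` for `q ≥ 4`** -/
theorem spr_ge_four (hF : Fintype.card F = q ^ 2) (hq4 : 4 ≤ q) (hR : ResList F q) : Spr (PSU 4 F q) := by
  classical
  obtain ⟨p, f, hp, hf, hq, hpF⟩ := GeoU.exists_prime_power hF
  obtain ⟨s, hs, hsiff, hs1, hsord⟩ := GeoU.exists_big (m := 3) hp hf le_rfl (by decide) (by
    rw [← hq]; omega)
  rw [← hq] at hsord
  have hfs := Fact.mk hs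
  have hs7 : 7 ≤ s := by
    have h1 := Nat.le_of_dvd (by have := hs.two_le; omega) hs1
    have h2 : 2 * 3 * 1 ≤ 2 * 3 * f := Nat.mul_le_mul_left _ hf
    omega
  have hsq1 : ¬ s ∣ q + 1 := by
    intro h
    have h1 : ((q + 1 : ℕ) : ZMod s) = 0 := (ZMod.natCast_eq_zero_iff _ _).2 h
    have h2 : -(q : ZMod s) = 1 := by
      push_cast at h1
      linear_combination -h1
    rw [h2, orderOf_one] at hsord
    omega
  obtain ⟨a, ha, hao⟩ := exists_prime_elt (n := 3) hF (by norm_num) hs (by norm_num) le_rfl hsord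
  -- the scalar
  obtain ⟨ζ, hζ⟩ := IsCyclic.exists_generator (α := Fˣ)
  have hζo : orderOf ζ = q ^ 2 - 1 := by
    rw [orderOf_eq_card_of_forall_mem_zpowers hζ, Nat.card_eq_fintype_card, Fintype.card_units, hF]
  have hfac : q ^ 2 - 1 = (q - 1) * (q + 1) := by
    obtain ⟨k, rfl⟩ : ∃ k, q = k + 1 := ⟨q - 1, by omega⟩
    rw [Nat.add_sub_cancel]
    have : (k + 1) ^ 2 = k * (k + 1 + 1) + 1 := by ring
    omega
  set u : Fˣ := ζ ^ (q - 1) with hu
  have huo : orderOf u = q + 1 := by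
    rw [hu, orderOf_pow' _ (by omega), hζo, hfac, Nat.gcd_mul_right_left]
    exact Nat.mul_div_cancel_left _ (by omega)
  set c : F := (u : F) with hc
  have hc0 : c ≠ 0 := u.ne_zero
  have hcq : c ^ (q + 1) = 1 := by
    rw [hc, ← Units.val_pow_eq_pow_val, ← huo, pow_orderOf_eq_one, Units.val_one]
  have hdv : ∀ k : ℕ, c ^ k = 1 → q + 1 ∣ k := by
    intro k hk
    rw [← huo]
    apply orderOf_dvd_of_pow_eq_one
    exact Units.ext (by rw [Units.val_pow_eq_pow_val, Units.val_one]; exact hk)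
  set d : F := c⁻¹ ^ 3 with hd
  have hdq : d ^ (q + 1) = 1 := by
    rw [hd, ← pow_mul, mul_comm, pow_mul, inv_pow, hcq, inv_one, one_pow]
  obtain ⟨g, hg, hgm⟩ := exists_blk hF (gu_smul hF (gu_of_mem hF ha) (a := c) (by rw [← hcq]; ring))
    (gu_smul hF (A := (1 : Matrix (Fin 1) (Fin 1) F)) (by
      ext i j
      fin_cases i
      fin_cases j
      simp [Matrix.mul_apply]) (a := d) (by rw [← hdq]; ring)) (by
    rw [Matrix.det_smul, (mem_SUg.1 ha).2, Matrix.det_smul, Matrix.det_one]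
    simp only [Fintype.card_fin, mul_one, pow_one]
    rw [hd, inv_pow, mul_inv_cancel₀ (pow_ne_zero _ hc0)])
  have hgk : ∀ k : ℕ, ((g ^ k : GL (Fin (3 + 1)) F) : Matrix (Fin (3 + 1)) (Fin (3 + 1)) F) =
      blk (c ^ k • ((a ^ k : GL (Fin 3) F) : Matrix (Fin 3) (Fin 3) F)) (d ^ k • (1 : Matrix (Fin 1) (Fin 1) F)) := by
    intro k
    rw [Units.val_pow_eq_pow_val, hgm, blk_pow, _root_.smul_pow, _root_.smul_pow, one_pow, Units.val_pow_eq_pow_val]
  set y := g ^ (q + 1) with hy
  have hym : (y : Matrix (Fin (3 + 1)) (Fin (3 + 1)) F) =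
      blk ((a ^ (q + 1) : GL (Fin 3) F) : Matrix (Fin 3) (Fin 3) F) (1 : Matrix (Fin 1) (Fin 1) F) := by
    rw [hy, hgk, hcq, hdq, one_smul, one_smul]
  have hao' : orderOf (a ^ (q + 1)) = s := by
    rw [orderOf_pow' _ (by omega), hao, (Nat.Prime.coprime_iff_not_dvd hs).2 hsq1, Nat.div_one]
  have haS' : a ^ (q + 1) ∈ SUg 3 F q := Subgroup.pow_mem _ ha _
  have haN : NoEig ((a ^ (q + 1) : GL (Fin 3) F) : Matrix (Fin 3) (Fin 3) F) := by
    refine noEig_of_prime hF hs hsord (by norm_num) ?_ haS' hao'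
    rw [GeoU.ord_sq_odd hsord (by decide)]
    norm_num
  have hyo : orderOf y = s := by
    apply orderOf_eq_prime
    · apply Units.ext
      rw [Units.val_pow_eq_pow_val, hym, blk_pow, ← Units.val_pow_eq_pow_val, ← hao', pow_orderOf_eq_one,
        one_pow, Units.val_one, blk_one]
      rfl
    · intro h1
      rw [h1, Units.val_one, ← blk_one] at hym
      have h2 := (blk_inj hym).1
      have h3 : a ^ (q + 1) = 1 := Units.ext h2.symm
      rw [h3, orderOf_one] at hao'
      omega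
  -- the line
  set v₀ : Fin 4 → F := Pi.single (Fin.natAdd 3 (0 : Fin 1)) 1 with hv₀
  set E : Submodule F (Fin 4 → F) := Submodule.span F {v₀} with hE
  have hv₀0 : v₀ ≠ 0 := by
    rw [hv₀]
    exact (Pi.single_ne_zero_iff).2 one_ne_zero
  have hline : ∀ W : Submodule F (Fin 4 → F), finrank F W = 1 →
      _root_.Cfsg.Agent.H951.Inv (Matrix.toLin' (y : Matrix (Fin 4) (Fin 4) F)) W → W = E := by
    intro W hW1 hinv
    obtain ⟨⟨v, hv⟩, hv0, hvs⟩ := finrank_eq_one_iff'.1 hW1
    obtain ⟨t, ht⟩ := hvs ⟨_, hinv v hv⟩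
    have h2 : t • v = Matrix.toLin' (y : Matrix (Fin 4) (Fin 4) F) v := congrArg Subtype.val ht
    rw [Matrix.toLin'_apply] at h2
    have h3 : (fun j : Fin 3 => v (Fin.castAdd 1 j)) = 0 := by
      apply haN _ t
      funext i
      have h4 := congrFun h2 (Fin.castAdd 1 i)
      have h5 := blk_mulVec_left ((a ^ (q + 1) : GL (Fin 3) F) : Matrix (Fin 3) (Fin 3) F)
        (1 : Matrix (Fin 1) (Fin 1) F) v i
      rw [← hym] at h5
      rw [← h5]
      exact h4.symm
    have hvE : v = v (Fin.natAdd 3 (0 : Fin 1)) • v₀ := by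
      funext i
      refine Fin.addCases (m := 3) (n := 1) (fun j => ?_) (fun j => ?_) i
      · have h4 := congrFun h3 j
        rw [hv₀, Pi.smul_apply, Pi.single_apply, if_neg (by
          intro h5
          have := congrArg Fin.val h5
          simp only [Fin.val_castAdd, Fin.val_natAdd] at this
          have := j.2
          omega), smul_zero]
        exact h4
      · have hj : j = 0 := Subsingleton.elim _ _
        subst hj
        rw [hv₀, Pi.smul_apply, Pi.single_eq_same, smul_eq_mul, mul_one]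
    have hle : W ≤ E := by
      intro w hw
      obtain ⟨r, hr⟩ := hvs ⟨w, hw⟩
      have : r • v = w := congrArg Subtype.val hr
      rw [← this, hvE]
      exact Submodule.smul_mem _ _ (Submodule.smul_mem _ _ (Submodule.mem_span_singleton_self v₀))
    exact Submodule.eq_of_le_of_finrank_eq hle (by rw [hW1, hE, finrank_span_singleton hv₀0])
  have hET : E ≠ ⊤ := by
    intro h
    have h1 := finrank_span_singleton (K := F) hv₀0
    rw [← hE, h, finrank_top, finrank_fintype_fun_eq_card, Fintype.card_fin] at h1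
    omega
  have hE0 : E ≠ ⊥ := by
    rw [hE, Ne, Submodule.span_singleton_eq_bot]
    exact hv₀0
  refine spr_one_of hF (n := 4) (by norm_num) (by norm_num) hg (M := subspaceStabilizer E)
    (not_le_subspaceStabilizer (SUg_irreducible hF (by norm_num)) hE0 hET) fun H hH hgH => ?_
  have hyH : y ∈ H := Subgroup.pow_mem _ hgH _
  rcases cases_of hF hp hq hf hs hsiff hsord hs7 hR hH hyH hyo with ⟨W, hW1, -, hHW⟩ | ⟨P, hs7', hP, e⟩ | ⟨P, h3, -⟩
  · rw [← hline W hW1 (GeoU.inv_of_mem (hHW hyH))]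
    exact hHW
  · exfalso
    have hsc : ∀ k : ℕ, g ^ k ∈ scalars (Fin 4) F → 7 ∣ k ∧ q + 1 ∣ 4 * k := by
      intro k hk
      obtain ⟨t, ht⟩ := (mem_scalars_iff _).1 hk
      have h1 : blk (c ^ k • ((a ^ k : GL (Fin 3) F) : Matrix (Fin 3) (Fin 3) F))
          (d ^ k • (1 : Matrix (Fin 1) (Fin 1) F)) =
          blk ((t : F) • (1 : Matrix (Fin 3) (Fin 3) F)) ((t : F) • (1 : Matrix (Fin 1) (Fin 1) F)) := by
        rw [← hgk]
        have h2 : blk ((t : F) • (1 : Matrix (Fin 3) (Fin 3) F)) ((t : F) • (1 : Matrix (Fin 1) (Fin 1) F)) =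
            (t : F) • (1 : Matrix (Fin (3 + 1)) (Fin (3 + 1)) F) := by
          have h3 : Matrix.fromBlocks ((t : F) • (1 : Matrix (Fin 3) (Fin 3) F)) 0 0 ((t : F) • (1 : Matrix (Fin 1) (Fin 1) F)) =
              (t : F) • Matrix.fromBlocks (1 : Matrix (Fin 3) (Fin 3) F) 0 0 (1 : Matrix (Fin 1) (Fin 1) F) := by
            rw [Matrix.fromBlocks_smul, smul_zero, smul_zero]
          rw [← blk_one, blk, blk, Matrix.reindex_apply, Matrix.reindex_apply, h3]
          rfl
        rw [h2]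
        exact ht
      obtain ⟨h2, h3⟩ := blk_inj h1
      have h4 : d ^ k = (t : F) := by
        have := congrFun (congrFun h3 0) 0
        simpa using this
      -- `a ^ k` is a scalar
      have h5 : ((a ^ k : GL (Fin 3) F) : Matrix (Fin 3) (Fin 3) F) =
          ((c ^ k)⁻¹ * t) • (1 : Matrix (Fin 3) (Fin 3) F) := by
        rw [mul_smul, ← h2, smul_smul, inv_mul_cancel₀ (pow_ne_zero _ hc0), one_smul]
      have h6 : a ^ k = 1 := by
        by_contra hne
        have h7 : orderOf (a ^ k) = s := by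
          have h8 : orderOf (a ^ k) ∣ s := by rw [← hao]; exact orderOf_pow_dvd k
          rcases (Nat.dvd_prime hs).1 h8 with h9 | h9
          · exact absurd (orderOf_eq_one_iff.1 h9) hne
          · exact h9
        have h8 : NoEig ((a ^ k : GL (Fin 3) F) : Matrix (Fin 3) (Fin 3) F) := by
          refine noEig_of_prime hF hs hsord (by norm_num) ?_ (Subgroup.pow_mem _ ha _) h7
          rw [GeoU.ord_sq_odd hsord (by decide)]
          norm_num
        have h9 := h8 (Pi.single 0 1) ((c ^ k)⁻¹ * t) (by rw [h5, Matrix.smul_mulVec, Matrix.one_mulVec])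
        exact one_ne_zero ((Pi.single_eq_zero_iff).1 h9)
      refine ⟨?_, ?_⟩
      · have := orderOf_dvd_of_pow_eq_one h6
        rw [hao, hs7'] at this
        exact this
      · rw [h6, Units.val_one] at h5
        have h7 := congrFun (congrFun h5 0) 0
        simp only [Matrix.one_apply_eq, Matrix.smul_apply, smul_eq_mul, mul_one] at h7
        have h8 : c ^ k = t := by
          have := congrArg (fun z => c ^ k * z) h7
          simp only [mul_one] at this
          rw [this, mul_inv_cancel_left₀ (pow_ne_zero _ hc0)]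
        apply hdv
        have h10 : d ^ k = ((c ^ k) ^ 3)⁻¹ := by
          rw [hd, ← inv_pow, ← inv_pow, ← pow_mul, ← pow_mul, mul_comm]
        have h9 : c ^ k * (c ^ k) ^ 3 = 1 := by
          calc c ^ k * (c ^ k) ^ 3 = d ^ k * (c ^ k) ^ 3 := by rw [h4, ← h8]
            _ = 1 := by rw [h10]; exact inv_mul_cancel₀ (pow_ne_zero _ (pow_ne_zero _ hc0))
        rw [← h9]
        ring
    obtain ⟨-, h7⟩ := core_alt7 hP e hgH (Or.inl rfl) (fun k hk => (hsc k hk).1)
    have h8 := (hsc 7 h7).2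
    have h9 : Nat.Coprime (q + 1) 7 := by
      rw [Nat.coprime_comm, Nat.Prime.coprime_iff_not_dvd (by norm_num)]
      rw [hs7'] at hsq1
      exact hsq1
    have h10 : q + 1 ∣ 4 := by
      apply h9.dvd_of_dvd_mul_right
      exact h8
    have := Nat.le_of_dvd (by norm_num) h10
    omega
  · omega

end main

end Cfsg.Agent.H833.Spr4
end
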