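import Cfsg.Agent.ChevalleyStructure.NineField
import Cfsg.Agent.H833.Spr4.Gen
import Cfsg.Agent.H380.TenRec.CaseL34
import Mathlib
import Cfsg.Agent.H740.Cyc.PSUAut
import Cfsg.Agent.LieClassical.SUBasic
import Cfsg.Agent.SporRec.GF4
import Cfsg.Agent.LieClassical.FieldTransfer
import Cfsg.Agent.FastGrp
import Cfsg.Agent.Prune
set_option linter.all false

section
prune_inst 0x7fffadfbbbfcbddfffff7e7faedfdffe3b955fffefdff94bffe861ffafdfa38e09e52bad8de010fe1ef7621418b87853fb7eceffea6bdc7ffffd5ff45ffbee4ff5f7bd08519e88b40fbc2fffe3f0778e7f3fffffffffffffffffffffffffffbeffbfffffffff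

-- part: H833/Spr4/CGrp
section
prune_inst 0x1000400200000000000000000001c028a000000000800000000000004810c0080000020b6900000000020044038000813000000420000000a000000011800a08000400402400000040001008000000000000000000000000000000000000000000000000
set_option linter.all false
open scoped Cfsg.Agent.FastGrp

-- part: H833/Spr4/Code
section
/-!
# 4 × 4 matrices over the field with nine elements, coded by natural numbers (S3938, `PSU_4(3)`)

The nibble `4 i + j` of the code of a matrix is the code `re + 3 im` of the entry `(i, j)`.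
-/

set_option autoImplicit false
set_option maxRecDepth 20000

namespace Cfsg.Agent.H833.Spr4.Code

open Cfsg.Agent.ChevalleyStructure.NineField

/-- the element with a given code -/
def d9 (n : ℕ) : F9 := ⟨⟨n % 3, Nat.mod_lt _ (by decide)⟩, ⟨n / 3 % 3, Nat.mod_lt _ (by decide)⟩⟩

/-- the multiplication table -/
def MT : ℕ := 25590604564115361080033708609007622491066914428573738826243980039831525061936824356669387737638393419909091469345785810684287944589973806803680811330188584496179198649749635546980453065510348842183758180150589299830178583235506001589003207674016588580810488412624486290070141359053845907857581421949228154880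
/-- the addition table -/
def AT : ℕ := 35156533807861506472801231190520297744579465700831016531918430801989653099606095563026679351850622875454547785892293083262142589210498866212057334686267851171782042734454921273365535969041983371181409746348371406139769904313761127701863442792924671558076625051828132222073556882618353639131679447778279567888
/-- the conjugation table -/
def CT : ℕ := 4068475619867320848

def m9 (a b : ℕ) : ℕ := Nat.mod (Nat.shiftRight MT (Nat.mul 4 (Nat.add (Nat.mul 16 a) b))) 16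
def a9 (a b : ℕ) : ℕ := Nat.mod (Nat.shiftRight AT (Nat.mul 4 (Nat.add (Nat.mul 16 a) b))) 16
def c9 (a : ℕ) : ℕ := Nat.mod (Nat.shiftRight CT (Nat.mul 4 a)) 16

theorem m9_lt (a b : ℕ) : m9 a b < 16 := Nat.mod_lt _ (by decide)
theorem a9_lt (a b : ℕ) : a9 a b < 16 := Nat.mod_lt _ (by decide)
theorem c9_lt (a : ℕ) : c9 a < 16 := Nat.mod_lt _ (by decide)

/-- conjugation -/
def cj : F9 ≃+* F9 where
  toFun x := ⟨x.re, -x.im⟩
  invFun x := ⟨x.re, -x.im⟩
  left_inv := by unfold Function.LeftInverse; decide +kernel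
  right_inv := by unfold Function.RightInverse Function.LeftInverse; decide +kernel
  map_mul' := by decide +kernel
  map_add' := by decide +kernel

theorem m9_fin : ∀ a b : Fin 16, d9 (m9 a b) = d9 a * d9 b := by decide +kernel
theorem a9_fin : ∀ a b : Fin 16, d9 (a9 a b) = d9 a + d9 b := by decide +kernel
theorem c9_fin : ∀ a : Fin 16, d9 (c9 a) = cj (d9 a) := by decide +kernel
theorem d9_fin : ∀ a b : Fin 16, d9 a = d9 b ↔ (a : ℕ) % 9 = (b : ℕ) % 9 := by decide +kernel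

theorem m9_spec {a b : ℕ} (ha : a < 16) (hb : b < 16) : d9 (m9 a b) = d9 a * d9 b := m9_fin ⟨a, ha⟩ ⟨b, hb⟩
theorem a9_spec {a b : ℕ} (ha : a < 16) (hb : b < 16) : d9 (a9 a b) = d9 a + d9 b := a9_fin ⟨a, ha⟩ ⟨b, hb⟩
theorem c9_spec {a : ℕ} (ha : a < 16) : d9 (c9 a) = cj (d9 a) := c9_fin ⟨a, ha⟩
theorem d9_spec {a b : ℕ} (ha : a < 16) (hb : b < 16) : d9 a = d9 b ↔ a % 9 = b % 9 := d9_fin ⟨a, ha⟩ ⟨b, hb⟩

/-- the nibble `k` -/
def en (M k : ℕ) : ℕ := Nat.mod (Nat.shiftRight M (Nat.mul 4 k)) 16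

theorem en_lt (M k : ℕ) : en M k < 16 := Nat.mod_lt _ (by decide)

/-- the number with given nibbles -/
def mk16 (x0 x1 x2 x3 x4 x5 x6 x7 x8 x9 x10 x11 x12 x13 x14 x15 : ℕ) : ℕ :=
  Nat.add x0 (Nat.mul 16 (Nat.add x1 (Nat.mul 16 (Nat.add x2 (Nat.mul 16 (Nat.add x3 (Nat.mul 16 (Nat.add x4 (Nat.mul 16 (Nat.add x5 (Nat.mul 16 (Nat.add x6 (Nat.mul 16 (Nat.add x7 (Nat.mul 16 (Nat.add x8 (Nat.mul 16 (Nat.add x9 (Nat.mul 16 (Nat.add x10 (Nat.mul 16 (Nat.add x11 (Nat.mul 16 (Nat.add x12 (Nat.mul 16 (Nat.add x13 (Nat.mul 16 (Nat.add x14 (Nat.mul 16 (x15))))))))))))))))))))))))))))))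

theorem en_eq (M k : ℕ) : en M k = M / 16 ^ k % 16 := by
  change (M >>> (4 * k)) % 16 = _
  rw [Nat.shiftRight_eq_div_pow, pow_mul]
  norm_num

theorem en_zero {x y : ℕ} (hx : x < 16) : en (x + 16 * y) 0 = x := by
  rw [en_eq, pow_zero, Nat.div_one]
  omega

theorem en_succ {x y k : ℕ} (hx : x < 16) : en (x + 16 * y) (k + 1) = en y k := by
  rw [en_eq, en_eq, pow_succ', ← Nat.div_div_eq_div_mul]
  congr 2
  omega

theorem en_mk16 {x : Fin 16 → ℕ} (hx : ∀ k, x k < 16) (k : Fin 16) :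
    en (mk16 (x 0) (x 1) (x 2) (x 3) (x 4) (x 5) (x 6) (x 7) (x 8) (x 9) (x 10) (x 11) (x 12) (x 13) (x 14) (x 15)) k = x k := by
  change en (x 0 + 16 * (x 1 + 16 * (x 2 + 16 * (x 3 + 16 * (x 4 + 16 * (x 5 + 16 * (x 6 + 16 * (x 7 + 16 * (x 8 +
    16 * (x 9 + 16 * (x 10 + 16 * (x 11 + 16 * (x 12 + 16 * (x 13 + 16 * (x 14 + 16 * x 15))))))))))))))) k = x k
  have h15 : x 15 = x 15 + 16 * 0 := by omega
  rw [h15]
  fin_cases k <;> simp only [en_zero, en_succ, hx, Fin.mk_zero, Fin.isValue, Fin.mk_one, Fin.reduceFinMk]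

/-- the matrix with a given code -/
def dM (M : ℕ) : Matrix (Fin 4) (Fin 4) F9 := Matrix.of fun i j => d9 (en M (4 * i.val + j.val))

theorem dM_apply (M : ℕ) (i j : Fin 4) : dM M i j = d9 (en M (4 * i.val + j.val)) := rfl

/-- the number with given nibbles -/
def mkF (y : ℕ → ℕ → ℕ) : ℕ :=
  mk16 (y 0 0) (y 0 1) (y 0 2) (y 0 3) (y 1 0) (y 1 1) (y 1 2) (y 1 3) (y 2 0) (y 2 1) (y 2 2) (y 2 3) (y 3 0) (y 3 1) (y 3 2) (y 3 3)

theorem en_mkF {y : ℕ → ℕ → ℕ} (hy : ∀ i j, y i j < 16) (i j : Fin 4) :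
    en (mkF y) (4 * i.val + j.val) = y i.val j.val := by
  have h := en_mk16 (x := fun k : Fin 16 => y (k.val / 4) (k.val % 4)) (fun k => hy _ _) ⟨4 * i.val + j.val, by omega⟩
  have h1 : (4 * i.val + j.val) / 4 = i.val := by omega
  have h2 : (4 * i.val + j.val) % 4 = j.val := by omega
  dsimp only at h
  rw [h1, h2] at h
  exact h

/-- the code of an entry of a product -/
def dt (A B i j : ℕ) : ℕ :=
  a9 (a9 (m9 (en A (Nat.mul 4 i)) (en B j)) (m9 (en A (Nat.add (Nat.mul 4 i) 1)) (en B (Nat.add 4 j))))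
    (a9 (m9 (en A (Nat.add (Nat.mul 4 i) 2)) (en B (Nat.add 8 j)))
      (m9 (en A (Nat.add (Nat.mul 4 i) 3)) (en B (Nat.add 12 j))))

theorem dt_lt (A B i j : ℕ) : dt A B i j < 16 := a9_lt _ _

/-- the products, as `4 * (re + 16 * im)` -/
def PTq : ℕ := nat_lit 1043692785642484300775557817264366371067225239826868693983039075422572312033193356484209264943414991750426556676128290541156677529132780214513102019384553585781534542133114335429071367467838144469592055366952342425931170002167764909268722624370608441079606203586292819398707407823747461869513332160983375389988436471190875384029289576116087383134936573197453115564449703778886912161468566719812215063336600500999758081513309225712384695434730906260684491403386672123180155355915502316778815440333746143471897484247460003589801494291679963444027279717783463218938931330146702024980735742176640952302956540340436205568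
/-- the code of a sum of four products -/
def FTq : ℕ := nat_lit 487351346204194887735617618491826821029810758183583386544115049592279300970869658628496551658743714290328412889032722695767271933951603080841992512832764108739772944

/-- the product, unrolled -/
def coreq (a0 a1 a2 a3 a4 a5 a6 a7 a8 a9 a10 a11 a12 a13 a14 a15 b0 b1 b2 b3 b4 b5 b6 b7 b8 b9 b10 b11 b12 b13 b14 b15 : ℕ) : ℕ :=
  Nat.add (Nat.mod (Nat.shiftRight FTq (Nat.add (Nat.add (Nat.mod (Nat.shiftRight PTq (Nat.add a0 b0)) (nat_lit 256)) (Nat.mod (Nat.shiftRight PTq (Nat.add a1 b4)) (nat_lit 256))) (Nat.add (Nat.mod (Nat.shiftRight PTq (Nat.add a2 b8)) (nat_lit 256)) (Nat.mod (Nat.shiftRight PTq (Nat.add a3 b12)) (nat_lit 256))))) (nat_lit 16))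
    (Nat.mul (nat_lit 16) (Nat.add (Nat.mod (Nat.shiftRight FTq (Nat.add (Nat.add (Nat.mod (Nat.shiftRight PTq (Nat.add a0 b1)) (nat_lit 256)) (Nat.mod (Nat.shiftRight PTq (Nat.add a1 b5)) (nat_lit 256))) (Nat.add (Nat.mod (Nat.shiftRight PTq (Nat.add a2 b9)) (nat_lit 256)) (Nat.mod (Nat.shiftRight PTq (Nat.add a3 b13)) (nat_lit 256))))) (nat_lit 16))
    (Nat.mul (nat_lit 16) (Nat.add (Nat.mod (Nat.shiftRight FTq (Nat.add (Nat.add (Nat.mod (Nat.shiftRight PTq (Nat.add a0 b2)) (nat_lit 256)) (Nat.mod (Nat.shiftRight PTq (Nat.add a1 b6)) (nat_lit 256))) (Nat.add (Nat.mod (Nat.shiftRight PTq (Nat.add a2 b10)) (nat_lit 256)) (Nat.mod (Nat.shiftRight PTq (Nat.add a3 b14)) (nat_lit 256))))) (nat_lit 16))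
    (Nat.mul (nat_lit 16) (Nat.add (Nat.mod (Nat.shiftRight FTq (Nat.add (Nat.add (Nat.mod (Nat.shiftRight PTq (Nat.add a0 b3)) (nat_lit 256)) (Nat.mod (Nat.shiftRight PTq (Nat.add a1 b7)) (nat_lit 256))) (Nat.add (Nat.mod (Nat.shiftRight PTq (Nat.add a2 b11)) (nat_lit 256)) (Nat.mod (Nat.shiftRight PTq (Nat.add a3 b15)) (nat_lit 256))))) (nat_lit 16))
    (Nat.mul (nat_lit 16) (Nat.add (Nat.mod (Nat.shiftRight FTq (Nat.add (Nat.add (Nat.mod (Nat.shiftRight PTq (Nat.add a4 b0)) (nat_lit 256)) (Nat.mod (Nat.shiftRight PTq (Nat.add a5 b4)) (nat_lit 256))) (Nat.add (Nat.mod (Nat.shiftRight PTq (Nat.add a6 b8)) (nat_lit 256)) (Nat.mod (Nat.shiftRight PTq (Nat.add a7 b12)) (nat_lit 256))))) (nat_lit 16))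
    (Nat.mul (nat_lit 16) (Nat.add (Nat.mod (Nat.shiftRight FTq (Nat.add (Nat.add (Nat.mod (Nat.shiftRight PTq (Nat.add a4 b1)) (nat_lit 256)) (Nat.mod (Nat.shiftRight PTq (Nat.add a5 b5)) (nat_lit 256))) (Nat.add (Nat.mod (Nat.shiftRight PTq (Nat.add a6 b9)) (nat_lit 256)) (Nat.mod (Nat.shiftRight PTq (Nat.add a7 b13)) (nat_lit 256))))) (nat_lit 16))
    (Nat.mul (nat_lit 16) (Nat.add (Nat.mod (Nat.shiftRight FTq (Nat.add (Nat.add (Nat.mod (Nat.shiftRight PTq (Nat.add a4 b2)) (nat_lit 256)) (Nat.mod (Nat.shiftRight PTq (Nat.add a5 b6)) (nat_lit 256))) (Nat.add (Nat.mod (Nat.shiftRight PTq (Nat.add a6 b10)) (nat_lit 256)) (Nat.mod (Nat.shiftRight PTq (Nat.add a7 b14)) (nat_lit 256))))) (nat_lit 16))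
    (Nat.mul (nat_lit 16) (Nat.add (Nat.mod (Nat.shiftRight FTq (Nat.add (Nat.add (Nat.mod (Nat.shiftRight PTq (Nat.add a4 b3)) (nat_lit 256)) (Nat.mod (Nat.shiftRight PTq (Nat.add a5 b7)) (nat_lit 256))) (Nat.add (Nat.mod (Nat.shiftRight PTq (Nat.add a6 b11)) (nat_lit 256)) (Nat.mod (Nat.shiftRight PTq (Nat.add a7 b15)) (nat_lit 256))))) (nat_lit 16))
    (Nat.mul (nat_lit 16) (Nat.add (Nat.mod (Nat.shiftRight FTq (Nat.add (Nat.add (Nat.mod (Nat.shiftRight PTq (Nat.add a8 b0)) (nat_lit 256)) (Nat.mod (Nat.shiftRight PTq (Nat.add a9 b4)) (nat_lit 256))) (Nat.add (Nat.mod (Nat.shiftRight PTq (Nat.add a10 b8)) (nat_lit 256)) (Nat.mod (Nat.shiftRight PTq (Nat.add a11 b12)) (nat_lit 256))))) (nat_lit 16))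
    (Nat.mul (nat_lit 16) (Nat.add (Nat.mod (Nat.shiftRight FTq (Nat.add (Nat.add (Nat.mod (Nat.shiftRight PTq (Nat.add a8 b1)) (nat_lit 256)) (Nat.mod (Nat.shiftRight PTq (Nat.add a9 b5)) (nat_lit 256))) (Nat.add (Nat.mod (Nat.shiftRight PTq (Nat.add a10 b9)) (nat_lit 256)) (Nat.mod (Nat.shiftRight PTq (Nat.add a11 b13)) (nat_lit 256))))) (nat_lit 16))
    (Nat.mul (nat_lit 16) (Nat.add (Nat.mod (Nat.shiftRight FTq (Nat.add (Nat.add (Nat.mod (Nat.shiftRight PTq (Nat.add a8 b2)) (nat_lit 256)) (Nat.mod (Nat.shiftRight PTq (Nat.add a9 b6)) (nat_lit 256))) (Nat.add (Nat.mod (Nat.shiftRight PTq (Nat.add a10 b10)) (nat_lit 256)) (Nat.mod (Nat.shiftRight PTq (Nat.add a11 b14)) (nat_lit 256))))) (nat_lit 16))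
    (Nat.mul (nat_lit 16) (Nat.add (Nat.mod (Nat.shiftRight FTq (Nat.add (Nat.add (Nat.mod (Nat.shiftRight PTq (Nat.add a8 b3)) (nat_lit 256)) (Nat.mod (Nat.shiftRight PTq (Nat.add a9 b7)) (nat_lit 256))) (Nat.add (Nat.mod (Nat.shiftRight PTq (Nat.add a10 b11)) (nat_lit 256)) (Nat.mod (Nat.shiftRight PTq (Nat.add a11 b15)) (nat_lit 256))))) (nat_lit 16))
    (Nat.mul (nat_lit 16) (Nat.add (Nat.mod (Nat.shiftRight FTq (Nat.add (Nat.add (Nat.mod (Nat.shiftRight PTq (Nat.add a12 b0)) (nat_lit 256)) (Nat.mod (Nat.shiftRight PTq (Nat.add a13 b4)) (nat_lit 256))) (Nat.add (Nat.mod (Nat.shiftRight PTq (Nat.add a14 b8)) (nat_lit 256)) (Nat.mod (Nat.shiftRight PTq (Nat.add a15 b12)) (nat_lit 256))))) (nat_lit 16))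
    (Nat.mul (nat_lit 16) (Nat.add (Nat.mod (Nat.shiftRight FTq (Nat.add (Nat.add (Nat.mod (Nat.shiftRight PTq (Nat.add a12 b1)) (nat_lit 256)) (Nat.mod (Nat.shiftRight PTq (Nat.add a13 b5)) (nat_lit 256))) (Nat.add (Nat.mod (Nat.shiftRight PTq (Nat.add a14 b9)) (nat_lit 256)) (Nat.mod (Nat.shiftRight PTq (Nat.add a15 b13)) (nat_lit 256))))) (nat_lit 16))
    (Nat.mul (nat_lit 16) (Nat.add (Nat.mod (Nat.shiftRight FTq (Nat.add (Nat.add (Nat.mod (Nat.shiftRight PTq (Nat.add a12 b2)) (nat_lit 256)) (Nat.mod (Nat.shiftRight PTq (Nat.add a13 b6)) (nat_lit 256))) (Nat.add (Nat.mod (Nat.shiftRight PTq (Nat.add a14 b10)) (nat_lit 256)) (Nat.mod (Nat.shiftRight PTq (Nat.add a15 b14)) (nat_lit 256))))) (nat_lit 16))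
    (Nat.mul (nat_lit 16) (Nat.mod (Nat.shiftRight FTq (Nat.add (Nat.add (Nat.mod (Nat.shiftRight PTq (Nat.add a12 b3)) (nat_lit 256)) (Nat.mod (Nat.shiftRight PTq (Nat.add a13 b7)) (nat_lit 256))) (Nat.add (Nat.mod (Nat.shiftRight PTq (Nat.add a14 b11)) (nat_lit 256)) (Nat.mod (Nat.shiftRight PTq (Nat.add a15 b15)) (nat_lit 256))))) (nat_lit 16)))))))))))))))))))))))))))))))

/-- a product of two entries -/
def prq (x y : ℕ) : ℕ := Nat.mod (Nat.shiftRight PTq (Nat.add (Nat.mul 128 x) (Nat.mul 8 y))) 256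

/-- the coding of the summands -/
def uq (n : ℕ) : ℕ := 4 * (n % 3 + 16 * (n / 3))

theorem prq_eq {x y : ℕ} (hx : x < 16) (hy : y < 16) : prq x y = uq (m9 x y) ∧ m9 x y < 9 := by
  have h : ((List.range 16).all fun x => (List.range 16).all fun y =>
      Nat.beq (prq x y) (uq (m9 x y)) && Nat.blt (m9 x y) 9) = true := by decide +kernel
  have h1 := List.all_eq_true.1 (List.all_eq_true.1 h x (List.mem_range.2 hx)) y (List.mem_range.2 hy)
  rwa [Bool.and_eq_true, Nat.beq_eq, Nat.blt_eq] at h1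

theorem smq_eq {p q r s : ℕ} (hp : p < 9) (hq : q < 9) (hr : r < 9) (hs : s < 9) :
    Nat.mod (Nat.shiftRight FTq (Nat.add (Nat.add (uq p) (uq q)) (Nat.add (uq r) (uq s)))) 16 =
      a9 (a9 p q) (a9 r s) := by
  have h : ((List.range 9).all fun p => (List.range 9).all fun q => (List.range 9).all fun r => (List.range 9).all fun s =>
      Nat.beq (Nat.mod (Nat.shiftRight FTq (Nat.add (Nat.add (uq p) (uq q)) (Nat.add (uq r) (uq s)))) 16)
        (a9 (a9 p q) (a9 r s))) = true := by decide +kernel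
  exact Nat.eq_of_beq_eq_true (List.all_eq_true.1 (List.all_eq_true.1 (List.all_eq_true.1 (List.all_eq_true.1 h
    p (List.mem_range.2 hp)) q (List.mem_range.2 hq)) r (List.mem_range.2 hr)) s (List.mem_range.2 hs))

/-- the code of an entry of a product -/
def dtq (A B i j : ℕ) : ℕ :=
  Nat.mod (Nat.shiftRight FTq (Nat.add
    (Nat.add (prq (en A (Nat.mul 4 i)) (en B j)) (prq (en A (Nat.add (Nat.mul 4 i) 1)) (en B (Nat.add 4 j))))
    (Nat.add (prq (en A (Nat.add (Nat.mul 4 i) 2)) (en B (Nat.add 8 j)))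
      (prq (en A (Nat.add (Nat.mul 4 i) 3)) (en B (Nat.add 12 j)))))) 16

theorem dtq_eq (A B : ℕ) : dtq A B = dt A B := by
  funext i j
  rw [dtq, dt, (prq_eq (en_lt _ _) (en_lt _ _)).1, (prq_eq (en_lt _ _) (en_lt _ _)).1,
    (prq_eq (en_lt _ _) (en_lt _ _)).1, (prq_eq (en_lt _ _) (en_lt _ _)).1]
  exact smq_eq (prq_eq (en_lt _ _) (en_lt _ _)).2 (prq_eq (en_lt _ _) (en_lt _ _)).2
    (prq_eq (en_lt _ _) (en_lt _ _)).2 (prq_eq (en_lt _ _) (en_lt _ _)).2

/-- the product -/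
def mm (A B : ℕ) : ℕ :=
  Nat.rec 0 (fun A _ => Nat.rec 0 (fun B _ => coreq (Nat.mul (nat_lit 128) (Nat.mod (Nat.shiftRight A (nat_lit 0)) (nat_lit 16))) (Nat.mul (nat_lit 128) (Nat.mod (Nat.shiftRight A (nat_lit 4)) (nat_lit 16))) (Nat.mul (nat_lit 128) (Nat.mod (Nat.shiftRight A (nat_lit 8)) (nat_lit 16))) (Nat.mul (nat_lit 128) (Nat.mod (Nat.shiftRight A (nat_lit 12)) (nat_lit 16))) (Nat.mul (nat_lit 128) (Nat.mod (Nat.shiftRight A (nat_lit 16)) (nat_lit 16))) (Nat.mul (nat_lit 128) (Nat.mod (Nat.shiftRight A (nat_lit 20)) (nat_lit 16))) (Nat.mul (nat_lit 128) (Nat.mod (Nat.shiftRight A (nat_lit 24)) (nat_lit 16))) (Nat.mul (nat_lit 128) (Nat.mod (Nat.shiftRight A (nat_lit 28)) (nat_lit 16))) (Nat.mul (nat_lit 128) (Nat.mod (Nat.shiftRight A (nat_lit 32)) (nat_lit 16))) (Nat.mul (nat_lit 128) (Nat.mod (Nat.shiftRight A (nat_lit 36)) (nat_lit 16))) (Nat.mul (nat_lit 128) (Nat.mod (Nat.shiftRight A (nat_lit 40)) (nat_lit 16))) (Nat.mul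 (nat_lit 128) (Nat.mod (Nat.shiftRight A (nat_lit 44)) (nat_lit 16))) (Nat.mul (nat_lit 128) (Nat.mod (Nat.shiftRight A (nat_lit 48)) (nat_lit 16))) (Nat.mul (nat_lit 128) (Nat.mod (Nat.shiftRight A (nat_lit 52)) (nat_lit 16))) (Nat.mul (nat_lit 128) (Nat.mod (Nat.shiftRight A (nat_lit 56)) (nat_lit 16))) (Nat.mul (nat_lit 128) (Nat.mod (Nat.shiftRight A (nat_lit 60)) (nat_lit 16)))
    (Nat.mul (nat_lit 8) (Nat.mod (Nat.shiftRight B (nat_lit 0)) (nat_lit 16))) (Nat.mul (nat_lit 8) (Nat.mod (Nat.shiftRight B (nat_lit 4)) (nat_lit 16))) (Nat.mul (nat_lit 8) (Nat.mod (Nat.shiftRight B (nat_lit 8)) (nat_lit 16))) (Nat.mul (nat_lit 8) (Nat.mod (Nat.shiftRight B (nat_lit 12)) (nat_lit 16))) (Nat.mul (nat_lit 8) (Nat.mod (Nat.shiftRight B (nat_lit 16)) (nat_lit 16))) (Nat.mul (nat_lit 8) (Nat.mod (Nat.shiftRight B (nat_lit 20)) (nat_lit 16))) (Nat.mul (nat_lit 8) (Nat.mod (Nat.shiftRight B (nat_lit 24)) (nat_lit 16))) (Nat.mul (nat_lit 8) (Nat.mod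 (Nat.shiftRight B (nat_lit 28)) (nat_lit 16))) (Nat.mul (nat_lit 8) (Nat.mod (Nat.shiftRight B (nat_lit 32)) (nat_lit 16))) (Nat.mul (nat_lit 8) (Nat.mod (Nat.shiftRight B (nat_lit 36)) (nat_lit 16))) (Nat.mul (nat_lit 8) (Nat.mod (Nat.shiftRight B (nat_lit 40)) (nat_lit 16))) (Nat.mul (nat_lit 8) (Nat.mod (Nat.shiftRight B (nat_lit 44)) (nat_lit 16))) (Nat.mul (nat_lit 8) (Nat.mod (Nat.shiftRight B (nat_lit 48)) (nat_lit 16))) (Nat.mul (nat_lit 8) (Nat.mod (Nat.shiftRight B (nat_lit 52)) (nat_lit 16))) (Nat.mul (nat_lit 8) (Nat.mod (Nat.shiftRight B (nat_lit 56)) (nat_lit 16))) (Nat.mul (nat_lit 8) (Nat.mod (Nat.shiftRight B (nat_lit 60)) (nat_lit 16)))) (Nat.succ B)) (Nat.succ A)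

theorem mm_eq (A B : ℕ) : mm A B = mkF (dt A B) := by
  rw [← dtq_eq]
  rfl

theorem dM_mm (A B : ℕ) : dM (mm A B) = dM A * dM B := by
  ext1 i j
  rw [dM_apply, Matrix.mul_apply, Fin.sum_univ_four]
  have h : en (mm A B) (4 * i.val + j.val) = dt A B i.val j.val := by
    rw [mm_eq]
    exact en_mkF (fun i j => dt_lt A B i j) i j
  rw [h, dt, a9_spec (a9_lt _ _) (a9_lt _ _), a9_spec (m9_lt _ _) (m9_lt _ _), a9_spec (m9_lt _ _) (m9_lt _ _),
    m9_spec (en_lt _ _) (en_lt _ _), m9_spec (en_lt _ _) (en_lt _ _), m9_spec (en_lt _ _) (en_lt _ _),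
    m9_spec (en_lt _ _) (en_lt _ _), ← add_assoc]
  have e3 : en B j.val = en B (4 * (0 : Fin 4).val + j.val) := by simp
  rw [e3]
  rfl

/-- conjugate transpose -/
def ctr (A : ℕ) : ℕ :=
  mkF fun i j => c9 (en A (Nat.add (Nat.mul 4 j) i))

theorem dM_ctr (A : ℕ) : dM (ctr A) = ((dM A).map cj).transpose := by
  ext1 i j
  have h : en (ctr A) (4 * i.val + j.val) = c9 (en A (4 * j.val + i.val)) :=
    en_mkF (y := fun i j => c9 (en A (Nat.add (Nat.mul 4 j) i))) (fun _ _ => c9_lt _) i j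
  rw [dM_apply, h, c9_spec (en_lt _ _)]
  rfl

/-- conjugation -/
def cjc (A : ℕ) : ℕ :=
  mkF fun i j => c9 (en A (Nat.add (Nat.mul 4 i) j))

theorem dM_cjc (A : ℕ) : dM (cjc A) = (dM A).map cj := by
  ext1 i j
  have h : en (cjc A) (4 * i.val + j.val) = c9 (en A (4 * i.val + j.val)) :=
    en_mkF (y := fun i j => c9 (en A (Nat.add (Nat.mul 4 i) j))) (fun _ _ => c9_lt _) i j
  rw [dM_apply, h, c9_spec (en_lt _ _)]
  rfl

/-- different matrices -/
def ne9 (A B : ℕ) : Bool := (List.range 16).any fun k => !(Nat.beq (Nat.mod (en A k) 9) (Nat.mod (en B k) 9))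

theorem ne9_spec {A B : ℕ} (h : ne9 A B = true) : dM A ≠ dM B := by
  rw [ne9, List.any_eq_true] at h
  obtain ⟨k, hk, h⟩ := h
  rw [List.mem_range] at hk
  intro hAB
  have h1 := congrFun (congrFun hAB ⟨k / 4, by omega⟩) ⟨k % 4, by omega⟩
  rw [dM_apply, dM_apply] at h1
  change d9 (en A (4 * (k / 4) + k % 4)) = d9 (en B (4 * (k / 4) + k % 4)) at h1
  rw [Nat.div_add_mod, d9_spec (en_lt _ _) (en_lt _ _)] at h1
  rw [Bool.not_eq_true', ← Bool.not_eq_true, Nat.beq_eq] at h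
  exact h h1

/-- the code of a scalar matrix -/
def sK (c : ℕ) : ℕ := Nat.mul c 1152922604119523329

theorem sK_fin : ∀ c : Fin 16, ∀ i j : Fin 4, d9 (en (sK c) (4 * i.val + j.val)) = if i = j then d9 c else 0 := by
  decide +kernel

theorem sK_spec {c : ℕ} (hc : c < 16) : dM (sK c) = d9 c • (1 : Matrix (Fin 4) (Fin 4) F9) := by
  ext1 i j
  rw [dM_apply, Matrix.smul_apply, Matrix.one_apply, smul_eq_mul, mul_ite, mul_one, mul_zero]
  exact sK_fin ⟨c, hc⟩ i j

theorem dM_one : dM (sK 1) = 1 := by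
  rw [sK_spec (by decide)]
  have : d9 1 = 1 := by decide +kernel
  rw [this, one_smul]

/-- scalar matrices -/
def isS (A : ℕ) : Bool := Nat.beq A (sK (Nat.mod A 16))

theorem isS_spec {A : ℕ} (h : isS A = true) : ∃ c : F9, dM A = c • (1 : Matrix (Fin 4) (Fin 4) F9) := by
  rw [isS, Nat.beq_eq] at h
  exact ⟨_, by rw [h]; exact sK_spec (Nat.mod_lt _ (by decide))⟩

/-- non-scalar matrices -/
def nS (A : ℕ) : Bool := ne9 A (sK (en A 0))

theorem nS_spec {A : ℕ} (h : nS A = true) (c : F9) : dM A ≠ c • (1 : Matrix (Fin 4) (Fin 4) F9) := by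
  intro h1
  apply ne9_spec h
  rw [sK_spec (en_lt _ _), h1]
  have h2 := congrFun (congrFun h1 0) 0
  rw [Matrix.smul_apply, Matrix.one_apply_eq, smul_eq_mul, mul_one] at h2
  rw [← h2]
  rfl

end Cfsg.Agent.H833.Spr4.Code
end

-- part: H833/Spr4/Nine
section
/-!
# S3938, `PSU_4(3)`: elements of order nine

`aut_l34` : `Aut(L_3(4))` has no element of order nine; `core_nine` : no element of order nine (modulo scalars) in the groups
with the socles `A_7` and `L_3(4)`.
-/

set_option autoImplicit false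
set_option linter.unusedSectionVars false

namespace Cfsg.Agent.H833.Spr4

open Cfsg Cfsg.Geo Module Cfsg.Agent.H918 Cfsg.Agent.H251 Cfsg.Agent.H951 Cfsg.Agent.H834.Cov
open scoped Matrix MatrixGroups

section aut

open Cfsg.Agent.ClassicalGeometry.AutPSL.Root Cfsg.Agent.ClassicalGeometry.AutPSL.Auto
open Cfsg.Agent.ClassicalGeometry.AutPSL.Main
open Cfsg.Agent.H380.TenRec.MatThree

theorem mon_cube {K : Type} [Field K] [Fintype K] (hK : Fintype.card K = 4) {M : Matrix (Fin 3) (Fin 3) K}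
    (hM : Mon M) : ∃ r : K, M * M * M = Matrix.scalar (Fin 3) r := by
  obtain ⟨a, b, c, ha, hb, hc, h⟩ := hM
  have hsc : ∀ r : K, Matrix.scalar (Fin 3) r = dg r r r := by
    intro r
    ext i j
    (revert i j; simp only [dg, Matrix.scalar_apply, _root_.Fin.forall_fin_succ, _root_.Matrix.of_apply, _root_.Matrix.cons_val', _root_.Matrix.cons_val_fin_one, Fin.isValue, _root_.Matrix.cons_val_zero, _root_.Matrix.cons_val_succ, _root_.Fin.succ_zero_eq_one, _root_.Fin.succ_one_eq_two, _root_.IsEmpty.forall_iff, _root_.and_true, _root_.Matrix.diagonal_apply_eq, _root_.ne_eq, _root_.zero_ne_one, _root_.not_false_eq_true, _root_.Matrix.diagonal_apply_ne, Fin.reduceEq, _root_.and_self, _root_.Fin.succ_ne_zero, _root_.true_and])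
  have ha3 := Cfsg.Agent.H380.TenRec.MatThree.pow_three hK ha
  have hb3 := Cfsg.Agent.H380.TenRec.MatThree.pow_three hK hb
  have hc3 := Cfsg.Agent.H380.TenRec.MatThree.pow_three hK hc
  rcases h with rfl | rfl | rfl
  · refine ⟨1, ?_⟩
    rw [hsc]
    simp only [dg_mul_dg]
    rw [show a * a * a = 1 by linear_combination ha3, show b * b * b = 1 by linear_combination hb3,
      show c * c * c = 1 by linear_combination hc3]
  · refine ⟨a * b * c, ?_⟩
    rw [hsc]
    simp only [k1_mul_k1, k2_mul_k1]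
    congr 1 <;> ring
  · refine ⟨a * b * c, ?_⟩
    rw [hsc]
    simp only [k2_mul_k2, k1_mul_k2]
    congr 1 <;> ring

/-- `Aut(L_3(4))` has no element of order nine -/
theorem aut_l34 {K : Type} [Field K] [Fintype K] (hK : Fintype.card K = 4)
    {x : MulAut (Matrix.ProjectiveSpecialLinearGroup (Fin 3) K)} (hx : x ^ 9 = 1) : x ^ 3 = 1 := by
  obtain ⟨A, rfl, hA⟩ := H380.TenRec.exists_cj hK hx
  obtain ⟨P, hP⟩ := exists_conj_mon hK A hA
  obtain ⟨r, hr⟩ := mon_cube hK (mem_Q.1 hP)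
  have h1 : (((P * A * P⁻¹) ^ 3 : GL (Fin 3) K) : Matrix (Fin 3) (Fin 3) K) = Matrix.scalar (Fin 3) r := by
    rw [← hr, pow_succ, pow_two]
    rfl
  have h2 : ((A ^ 3 : GL (Fin 3) K) : Matrix (Fin 3) (Fin 3) K) = Matrix.scalar (Fin 3) r := by
    have h3 : A ^ 3 = P⁻¹ * (P * A * P⁻¹) ^ 3 * P := by
      rw [conj_pow]
      group
    rw [h3, Units.val_mul, Units.val_mul, h1, (Matrix.scalar_commute r (fun _ => mul_comm _ _) _).symm.eq, mul_assoc,
      ← Units.val_mul, inv_mul_cancel, Units.val_one, mul_one]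
  rw [← map_pow, ← map_pow, cj_eq_one_of_scalar h2.symm, map_one]

end aut

section core

variable {F : Type} [Field F] [Fintype F]

/-- no element of order nine modulo scalars -/
theorem core_nine {H P : Subgroup (GL (Fin 4) F)} (hP : IsResidualCore H P)
    (e : Nonempty ((P ⧸ (scalars (Fin 4) F).subgroupOf P) ≃* alternatingGroup (Fin 7)) ∨
      ∃ (K : Type) (_ : Field K) (_ : Fintype K), Fintype.card K = 4 ∧
        Nonempty ((P ⧸ (scalars (Fin 4) F).subgroupOf P) ≃* Matrix.ProjectiveSpecialLinearGroup (Fin 3) K))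
    {u : GL (Fin 4) F} (hu : u ∈ H) (h9 : u ^ 9 ∈ scalars (Fin 4) F) (h3 : u ^ 3 ∉ scalars (Fin 4) F) : False := by
  set! c : H ⧸ (scalars (Fin 4) F).subgroupOf H := QuotientGroup.mk' _ ⟨u, hu⟩ with hc
  have hpow : ∀ k : ℕ, c ^ k = 1 ↔ u ^ k ∈ scalars (Fin 4) F := by
    intro k
    rw [hc, ← map_pow]
    change (QuotientGroup.mk _ : H ⧸ (scalars (Fin 4) F).subgroupOf H) = 1 ↔ _
    rw [QuotientGroup.eq_one_iff, Subgroup.mem_subgroupOf]
    rfl
  have hc9 : c ^ 9 = 1 := (hpow 9).2 h9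
  have hc3 : c ^ 3 ≠ 1 := fun h => h3 ((hpow 3).1 h)
  have hord : orderOf c = 9 := by
    have hp3 : Fact (Nat.Prime 3) := ⟨Nat.prime_three⟩
    have := orderOf_eq_prime_pow (x := c) (p := 3) (n := 1) (by simpa only [_root_.pow_one, _root_.ne_eq] using hc3) (by simpa only [_root_.Nat.reduceAdd, _root_.Nat.reducePow] using hc9)
    simpa using this
  rcases e with e | ⟨K, i1, i2, hK, ⟨e⟩⟩
  · have := (core_alt7 hP e hu (m := 9) (Or.inr rfl) fun k hk => by
      rw [← hord]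
      exact orderOf_dvd_of_pow_eq_one ((hpow k).2 hk)).1
    omega
  · obtain ⟨φ, hφ⟩ := H900.SU4.exists_core_inj hP
    set! θ : (H ⧸ (scalars (Fin 4) F).subgroupOf H) →* MulAut (Matrix.ProjectiveSpecialLinearGroup (Fin 3) K) :=
      (MulAut.congr e).toMonoidHom.comp φ with hθ
    have hθi : Function.Injective θ := (MulAut.congr e).injective.comp hφ
    apply hc3
    apply hθi
    rw [map_pow, map_one]
    apply aut_l34 hK
    rw [← map_pow, hc9, map_one]

end core

end Cfsg.Agent.H833.Spr4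
end

-- part: H833/Spr4/Grp
section
/-!
# S3938, `PSU_4(3)`: tools on groups

* `Good` : the condition of `Spr` for one automorphism; `Good.of_pow`, `Good.of_conj`;
* `exists_conj_mem` : elements of prime order `r` are conjugate into the subgroups of index prime to `r`;
* `prod_subgroup` : the order of a product of two subgroups.
-/

set_option autoImplicit false

namespace Cfsg.Agent.H833.Spr4

section good

variable {L : Type*} [Group L]

/-- the condition of `Spr` for one automorphism -/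
def Good (a : MulAut L) : Prop := ∃ x : L, ∀ K : Subgroup L, x ∈ K → (∀ k ∈ K, a k ∈ K) → K = ⊤

theorem Good.of_pow {a : MulAut L} (m : ℕ) (h : Good (a ^ m)) : Good a := by
  obtain ⟨x, hx⟩ := h
  refine ⟨x, fun K hxK hK => hx K hxK ?_⟩
  have : ∀ m : ℕ, ∀ k ∈ K, (a ^ m) k ∈ K := by
    intro m
    induction m with
    | zero => intro k hk; exact hk
    | succ m ih =>
      intro k hk
      rw [pow_succ']
      exact hK _ (ih k hk)
  exact this m

theorem Good.of_conj {a : MulAut L} (b : MulAut L) (h : Good (b⁻¹ * a * b)) : Good a := by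
  obtain ⟨x, hx⟩ := h
  refine ⟨b x, fun K hxK hK => ?_⟩
  have h1 := hx (K.comap b.toMonoidHom) hxK (by
    intro k hk
    change b ((b⁻¹ * a * b) k) ∈ K
    have : b ((b⁻¹ * a * b) k) = a (b k) := by
      rw [MulAut.mul_apply, MulAut.mul_apply, MulAut.apply_inv_self]
    rw [this]
    exact hK _ hk)
  rw [eq_top_iff]
  intro y _
  have h2 : b⁻¹ y ∈ K.comap b.toMonoidHom := by rw [h1]; trivial
  have h3 : b (b⁻¹ y) ∈ K := h2
  rwa [MulAut.apply_inv_self] at h3

end good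

section grp

variable {G : Type*} [Group G] [Finite G]

theorem exists_conj_mem {r : ℕ} (hr : r.Prime) {S : Subgroup G} (hS : ¬ r ∣ S.index) {a : G} (ha : orderOf a = r) :
    ∃ g : G, g⁻¹ * a * g ∈ S := by
  have := Fact.mk hr
  have hp : IsPGroup r (Subgroup.zpowers a) := IsPGroup.of_card (n := 1) (by rw [Nat.card_zpowers, ha, pow_one])
  obtain ⟨c, hc⟩ := hp.nonempty_fixed_point_of_prime_not_dvd_card (G ⧸ S) hS
  obtain ⟨g, rfl⟩ := QuotientGroup.mk_surjective c
  have h1 : ((a * g : G) : G ⧸ S) = (g : G ⧸ S) := hc ⟨a, Subgroup.mem_zpowers a⟩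
  refine ⟨g, ?_⟩
  have h2 := QuotientGroup.eq.1 h1.symm
  rwa [← mul_assoc] at h2

/-- the index from the order -/
theorem not_dvd_index {r : ℕ} {S : Subgroup G} {m k N : ℕ} (hG : Nat.card G = N) (hS : Nat.card S = m)
    (hN : N = m * k) (hm : 0 < m) (hk : ¬ r ∣ k) : ¬ r ∣ S.index := by
  have h1 := S.card_mul_index
  rw [hG, hS, hN] at h1
  rwa [Nat.eq_of_mul_eq_mul_left hm h1]

theorem exists_subgroup (T : Set G) (h0 : T.Nonempty) (hT : ∀ x ∈ T, ∀ y ∈ T, x * y ∈ T) :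
    ∃ S : Subgroup G, (S : Set G) = T := by
  have hpow : ∀ x ∈ T, ∀ k : ℕ, x ^ (k + 1) ∈ T := by
    intro x hx k
    induction k with
    | zero => simpa using hx
    | succ k ih => rw [pow_succ]; exact hT _ ih _ hx
  have h1 : ∀ x ∈ T, ∀ k : ℕ, 0 < k → x ^ k ∈ T := by
    intro x hx k hk
    obtain ⟨j, rfl⟩ : ∃ j, k = j + 1 := ⟨k - 1, by omega⟩
    exact hpow x hx j
  obtain ⟨x0, hx0⟩ := h0
  refine ⟨{ carrier := T, mul_mem' := fun {x y} hx hy => hT x hx y hy, one_mem' := ?_, inv_mem' := ?_ }, rfl⟩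
  · rw [← pow_orderOf_eq_one x0]
    exact h1 x0 hx0 _ (orderOf_pos x0)
  · intro x hx
    have h2 : x⁻¹ = x ^ (orderOf x * 2 - 1) := by
      rw [inv_eq_iff_mul_eq_one, ← pow_succ', show orderOf x * 2 - 1 + 1 = orderOf x * 2 by have := orderOf_pos x; omega,
        pow_mul, pow_orderOf_eq_one, one_pow]
    rw [h2]
    exact h1 x hx _ (by have := orderOf_pos x; omega)

/-- a product of two subgroups with trivial intersection -/
theorem prod_subgroup {m n : ℕ} (hm : 0 < m) (hn : 0 < n) (f : Fin m → G) (g : Fin n → G)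
    (hf : ∀ i i', ∃ i'', f i * f i' = f i'') (hg : ∀ j j', ∃ j'', g j * g j' = g j'')
    (hgf : ∀ j i, ∃ i', g j * f i = f i' * g j) (hfi : Function.Injective f) (hgi : Function.Injective g)
    (h1 : ∀ i j, f i = g j → f i = 1) :
    ∃ S : Subgroup G, Nat.card S = m * n ∧ ∀ s ∈ S, ∃ i j, s = f i * g j := by
  obtain ⟨A, hA⟩ := exists_subgroup (Set.range f) ⟨_, ⟨0, hm⟩, rfl⟩ (by
    rintro _ ⟨i, rfl⟩ _ ⟨i', rfl⟩
    obtain ⟨i'', h⟩ := hf i i'
    exact ⟨i'', h.symm⟩)
  obtain ⟨B, hB⟩ := exists_subgroup (Set.range g) ⟨_, ⟨0, hn⟩, rfl⟩ (by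
    rintro _ ⟨i, rfl⟩ _ ⟨i', rfl⟩
    obtain ⟨i'', h⟩ := hg i i'
    exact ⟨i'', h.symm⟩)
  have hAf : ∀ i, f i ∈ A := fun i => by
    change f i ∈ (A : Set G)
    rw [hA]
    exact ⟨i, rfl⟩
  have hBg : ∀ i, g i ∈ B := fun i => by
    change g i ∈ (B : Set G)
    rw [hB]
    exact ⟨i, rfl⟩
  set! T : Set G := Set.range fun x : Fin m × Fin n => f x.1 * g x.2 with hTdef
  obtain ⟨S, hS⟩ := exists_subgroup T ⟨_, ⟨⟨0, hm⟩, ⟨0, hn⟩⟩, rfl⟩ (by
    rintro _ ⟨⟨i, j⟩, rfl⟩ _ ⟨⟨i', j'⟩, rfl⟩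
    dsimp only
    obtain ⟨k, hk⟩ := hgf j i'
    obtain ⟨l, hl⟩ := hf i k
    obtain ⟨l', hl'⟩ := hg j j'
    refine ⟨⟨l, l'⟩, ?_⟩
    dsimp only
    calc f l * g l' = f i * (f k * g j) * g j' := by rw [← hl, ← hl']; group
      _ = f i * g j * (f i' * g j') := by rw [← hk]; group)
  have hinj : Function.Injective fun x : Fin m × Fin n => f x.1 * g x.2 := by
    rintro ⟨i, j⟩ ⟨i', j'⟩ h
    dsimp only at h
    have h2 : (f i')⁻¹ * f i = g j' * (g j)⁻¹ := by
      calc (f i')⁻¹ * f i = (f i')⁻¹ * (f i * g j) * (g j)⁻¹ := by group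
        _ = g j' * (g j)⁻¹ := by rw [h]; group
    have hmA : (f i')⁻¹ * f i ∈ (A : Set G) := A.mul_mem (A.inv_mem (hAf i')) (hAf i)
    have hmB : g j' * (g j)⁻¹ ∈ (B : Set G) := B.mul_mem (hBg j') (B.inv_mem (hBg j))
    rw [hA] at hmA
    rw [hB] at hmB
    obtain ⟨a, ha⟩ := hmA
    obtain ⟨b, hb⟩ := hmB
    have h3 := h1 a b (by rw [ha, hb, h2])
    rw [ha] at h3
    have h4 : f i = f i' := by
      calc f i = f i' * ((f i')⁻¹ * f i) := by group
        _ = f i' := by rw [h3, mul_one]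
    rw [h2] at h3
    have h5 : g j' = g j := by
      calc g j' = g j' * (g j)⁻¹ * g j := by group
        _ = g j := by rw [h3, one_mul]
    rw [hfi h4, hgi h5]
  refine ⟨S, ?_, ?_⟩
  · change Nat.card (S : Set G) = m * n
    rw [hS, hTdef, Nat.card_range_of_injective hinj, Nat.card_prod, Nat.card_eq_fintype_card, Nat.card_eq_fintype_card,
      Fintype.card_fin, Fintype.card_fin]
  · intro s hs
    have : s ∈ (S : Set G) := hs
    rw [hS] at this
    obtain ⟨⟨i, j⟩, rfl⟩ := this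
    exact ⟨i, j, rfl⟩

end grp

end Cfsg.Agent.H833.Spr4
end

-- part: H833/Spr4/Au
section
/-!
# S3938, `PSU_4(3)`: coded automorphisms

`au a e` : the automorphism of `PSU_4(3)` given by the unitary matrix with code `a` and the field automorphism `rr e`.
-/

set_option autoImplicit false

namespace Cfsg.Agent.H833.Spr4.Code

open Cfsg Cfsg.Agent.ChevalleyStructure.NineField Cfsg.Agent.LieClassical
  Cfsg.Agent.ClassicalGeometry.PSUAutCount Cfsg.Agent.ClassicalGeometry.UnitAutBasic Cfsg.Agent.LieClassical.HermSiegel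
  Cfsg.Agent.LieClassical.FieldTransfer
open scoped Matrix MatrixGroups

theorem hF9 : Fintype.card F9 = 3 ^ 2 := by decide +kernel

theorem cj_eq : ∀ x : F9, cj x = x ^ 3 := by decide +kernel

theorem cj_cj : ∀ x : F9, cj (cj x) = x := by decide +kernel

/-- unitary codes -/
def Uni (a : ℕ) : Prop := dM a * dM (ctr a) = 1

/-- test for unitary codes -/
def isU (a : ℕ) : Bool := Nat.beq (mm a (ctr a)) (sK 1)

theorem isU_spec {a : ℕ} (h : isU a = true) : Uni a := by
  rw [isU, Nat.beq_eq] at h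
  rw [Uni, ← dM_mm, h, dM_one]

theorem map_frob (M : Matrix (Fin 4) (Fin 4) F9) : M.map (GUOrder.frob hF9) = M.map cj := by
  refine Matrix.ext fun i j => ?_
  change (M i j) ^ 3 = cj (M i j)
  rw [cj_eq]

theorem uni_iff (a : ℕ) : Uni a ↔ (∀ u v : Fin 4 → F9, hermForm 4 F9 3 (dM a *ᵥ u) (dM a *ᵥ v) = hermForm 4 F9 3 u v) := by
  rw [GUOrder.mul_map_eq_one_iff hF9, map_frob, Uni, dM_ctr, mul_eq_one_comm]
  constructor
  · intro h
    have h1 := congrArg Matrix.transpose h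
    rwa [Matrix.transpose_mul, Matrix.transpose_transpose, Matrix.transpose_one] at h1
  · intro h
    have h1 := congrArg Matrix.transpose h
    rwa [Matrix.transpose_mul, Matrix.transpose_transpose, Matrix.transpose_one] at h1

/-- the unitary element with a given code -/
noncomputable def gu (a : ℕ) (h : Uni a) : Cfsg.GU 4 F9 3 := GUOrder.mkGU hF9 (dM a) ((uni_iff a).1 h)

theorem gm_gu {a : ℕ} (h : Uni a) : gm (gu a h) = dM a := rfl

theorem gm_gu_inv {a : ℕ} (h : Uni a) : gm (gu a h)⁻¹ = dM (ctr a) := by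
  have h1 := gm_inv_mul (gu a h)
  rw [gm_gu] at h1
  calc gm (gu a h)⁻¹ = gm (gu a h)⁻¹ * (dM a * dM (ctr a)) := by rw [show dM a * dM (ctr a) = 1 from h, mul_one]
    _ = dM (ctr a) := by rw [← mul_assoc, h1, one_mul]

/-- the field automorphisms -/
def rr : ℕ → (F9 ≃+* F9)
  | 0 => 1
  | _ + 1 => cj

/-- the action of the field automorphisms on codes -/
def cc : ℕ → ℕ → ℕ
  | 0, b => b
  | _ + 1, b => cjc b

theorem dM_cc (e b : ℕ) : dM (cc e b) = (dM b).map (rr e) := by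
  cases e with
  | zero => rfl
  | succ e => exact dM_cjc b

theorem rr_mul {e f : ℕ} (he : e < 2) (hf : f < 2) : rr e * rr f = rr ((e + f) % 2) := by
  interval_cases e <;> interval_cases f
  · rfl
  · rfl
  · rfl
  · ext x : 1
    exact cj_cj x

theorem rr_inj {e f : ℕ} (he : e < 2) (hf : f < 2) (h : rr e = rr f) : e = f := by
  have h0 : ∃ x : F9, cj x ≠ x := by decide +kernel
  obtain ⟨x, hx⟩ := h0
  interval_cases e <;> interval_cases f
  · rfl
  · exact absurd (congrArg (fun r : F9 ≃+* F9 => r x) h).symm hx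
  · exact absurd (congrArg (fun r : F9 ≃+* F9 => r x) h) hx
  · rfl

open Classical in
/-- coded automorphisms -/
noncomputable def au (a e : ℕ) : MulAut (PSU 4 F9 3) := if h : Uni a then toAut (gu a h) (rr e) else 1

theorem au_def {a : ℕ} (h : Uni a) (e : ℕ) : au a e = toAut (gu a h) (rr e) := by
  rw [au, dif_pos h]

theorem uni_mm {a b : ℕ} (ha : Uni a) (hb : Uni b) (e : ℕ) : Uni (mm a (cc e b)) := by
  obtain ⟨C, hC, -⟩ := H740.Cyc.exists_comp hF9 (gu a ha) (gu b hb) (rr e) 1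
  rw [gm_gu, gm_gu, ← dM_cc, ← dM_mm] at hC
  rw [uni_iff, ← hC]
  exact C.2

theorem au_mul {a b e f : ℕ} (ha : Uni a) (hb : Uni b) (he : e < 2) (hf : f < 2) :
    au a e * au b f = au (mm a (cc e b)) ((e + f) % 2) := by
  obtain ⟨C, hC, h⟩ := H740.Cyc.exists_comp hF9 (gu a ha) (gu b hb) (rr e) (rr f)
  rw [gm_gu, gm_gu, ← dM_cc, ← dM_mm] at hC
  rw [au_def ha, au_def hb, ← h, au_def (uni_mm ha hb e), rr_mul he hf]
  congr 1
  exact gm_inj hC

theorem au_eq {a b e f : ℕ} (ha : Uni a) (hb : Uni b) (he : e < 2) (hf : f < 2) (h : au a e = au b f) :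
    e = f ∧ ∃ c : F9, dM b = c • dM a := by
  rw [au_def ha, au_def hb] at h
  obtain ⟨h1, c, -, h2⟩ := eq_of_toAut_eq hF9 (by norm_num) h
  exact ⟨(rr_inj hf he h1).symm, c, h2⟩

theorem au_smul {a b : ℕ} (e : ℕ) (ha : Uni a) (hb : Uni b) {c : F9} (hc : c * c ^ 3 = 1) (h : dM b = c • dM a) :
    au b e = au a e := by
  rw [au_def ha, au_def hb, ← toAut_sc_mul ⟨c, hc⟩ (gu a ha)]
  congr 1
  apply gm_inj
  rw [gm_sc_mul, gm_gu, gm_gu, h]

theorem smul_uni {a b : ℕ} (ha : Uni a) (hb : Uni b) {c : F9} (h : dM b = c • dM a) : c * c ^ 3 = 1 := by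
  have h1 := (GUOrder.mul_map_eq_one_iff hF9 _).1 ((uni_iff a).1 ha)
  have h2 := (GUOrder.mul_map_eq_one_iff hF9 _).1 ((uni_iff b).1 hb)
  have h3 : (c • dM a).map (GUOrder.frob hF9) = c ^ 3 • (dM a).map (GUOrder.frob hF9) := by
    refine Matrix.ext fun i j => ?_
    simp only [Matrix.map_apply, Matrix.smul_apply, smul_eq_mul, map_mul]
    rfl
  rw [h, h3, Matrix.transpose_smul, Matrix.smul_mul, Matrix.mul_smul, h1, smul_smul] at h2
  have h4 := congrFun (congrFun h2 0) 0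
  rwa [Matrix.smul_apply, Matrix.one_apply_eq, smul_eq_mul, mul_one] at h4

theorem uni_one : Uni (sK 1) := by
  rw [Uni, dM_ctr, dM_one, Matrix.map_one _ (map_zero _) (map_one _), Matrix.transpose_one, mul_one]

theorem au_one : au (sK 1) 0 = 1 := by
  rw [au_def uni_one, ← H740.Cyc.toAut_one_one]
  congr 1
  apply gm_inj
  rw [gm_gu, dM_one, gm_one]

end Cfsg.Agent.H833.Spr4.Code
end

-- part: H833/Spr4/Cert
section
/-!
# S3938, `PSU_4(3)`: certificates

`good_of_cert` : a certificate for one automorphism.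
-/

set_option autoImplicit false

namespace Cfsg.Agent.H833.Spr4.Code

open Cfsg Cfsg.Geo Module Cfsg.Agent.ChevalleyStructure.NineField Cfsg.Agent.LieClassical
  Cfsg.Agent.ClassicalGeometry.PSUAutCount Cfsg.Agent.ClassicalGeometry.UnitAutBasic Cfsg.Agent.LieClassical.HermSiegel
  Cfsg.Agent.LieClassical.FieldTransfer
open Cfsg.Agent.H918 Cfsg.Agent.H251 Cfsg.Agent.H951 Cfsg.Agent.H834.Cov
open scoped Matrix MatrixGroups

/-- elements of order seven with a matrix of fixed vectors -/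
structure Sev (X V : ℕ) : Prop where
  uni : Uni X
  pow : dM X ^ 7 = 1
  ne : dM X ≠ 1
  fix : dM X * dM V = dM V

/-- the cube -/
def cb (u : ℕ) : ℕ := mm u (mm u u)

theorem dM_cb (u : ℕ) : dM (cb u) = dM u ^ 3 := by
  rw [cb, dM_mm, dM_mm, pow_succ', pow_two]

/-- test for `Sev` -/
def tS (X V : ℕ) : Bool :=
  isU X && (ne9 X (sK 1) && (Nat.beq (mm X V) V && Nat.beq (mm X (mm (cb X) (cb X))) (sK 1)))

theorem tS_spec {X V : ℕ} (h : tS X V = true) : Sev X V := by
  rw [tS, Bool.and_eq_true, Bool.and_eq_true, Bool.and_eq_true, Nat.beq_eq, Nat.beq_eq] at h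
  obtain ⟨h1, h2, h3, h4⟩ := h
  refine ⟨isU_spec h1, ?_, ?_, ?_⟩
  · have h5 := congrArg dM h4
    rw [dM_mm, dM_mm, dM_cb, dM_one] at h5
    rw [← h5]
    noncomm_ring
  · have := ne9_spec h2
    rwa [dM_one] at this
  · rw [← dM_mm, h3]

/-- the image of `X` -/
def Yc (a e X : ℕ) : ℕ := mm (mm a (cc e X)) (ctr a)

/-- the certificate -/
def cert (a e X V P : ℕ) : Bool :=
  isS (cb (cb (mm P (Yc a e X)))) && (nS (cb (mm P (Yc a e X))) && ne9 (mm (Yc a e X) V) V)

theorem det_one {X V : ℕ} (h : Sev X V) : (dM X).det = 1 := by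
  have h1 : (dM X).det ^ 7 = 1 := by rw [← Matrix.det_pow, h.pow, Matrix.det_one]
  have h0 : (dM X).det ≠ 0 := by
    intro h2
    rw [h2] at h1
    norm_num at h1
  have h2 := FiniteField.pow_card_sub_one_eq_one (dM X).det h0
  rw [hF9] at h2
  have h3 : (dM X).det ^ (3 ^ 2 - 1) = (dM X).det ^ 7 * (dM X).det := by norm_num; ring
  rw [h3, h1, one_mul] at h2
  exact h2

theorem ord_q : orderOf (-((3 : ℕ) : ZMod 7)) = 3 := by
  have hp : Fact (Nat.Prime 3) := ⟨Nat.prime_three⟩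
  apply orderOf_eq_prime
  · decide
  · decide

theorem ord_q2 : orderOf (((3 ^ 2 : ℕ) : ZMod 7)) = 3 := by
  have hp : Fact (Nat.Prime 3) := ⟨Nat.prime_three⟩
  apply orderOf_eq_prime
  · decide
  · decide

theorem div_iff (k : ℕ) : 7 ∣ 3 ^ k - 1 ↔ 2 * 3 * 1 ∣ k := by
  have h1 : 1 ≤ 3 ^ k := Nat.one_le_pow _ _ (by norm_num)
  rw [← Nat.modEq_iff_dvd' h1, ← ZMod.natCast_eq_natCast_iff]
  have h6 : orderOf (3 : ZMod 7) = 6 := by
    apply (orderOf_eq_iff (by norm_num)).2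
    refine ⟨by decide, ?_⟩
    intro m hm h0
    interval_cases m <;> decide
  rw [show 2 * 3 * 1 = orderOf (3 : ZMod 7) by rw [h6], orderOf_dvd_iff_pow_eq_one]
  push_cast
  exact eq_comm

theorem good_of_cert (hR : ResList F9 3) {A : Cfsg.GU 4 F9 3} {a e X V P : ℕ} (hA : gm A = dM a) (hX : Sev X V)
    (hP : ∃ i, dM P = dM X ^ i) (hc : cert a e X V P = true) : Good (toAut A (rr e)) := by
  classical
  have ha : Uni a := by rw [uni_iff, ← hA]; exact A.2
  have hAg : A = gu a ha := gm_inj hA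
  subst hAg
  have hfin : Finite (Cfsg.SU 4 F9 3) := inferInstance
  have hisoX := (uni_iff X).1 hX.uni
  set! x : Cfsg.SU 4 F9 3 := ⟨⟨dM X, det_one hX⟩, hisoX⟩ with hx
  have hxm : mat x = dM X := rfl
  set! y : Cfsg.SU 4 F9 3 := semiConj (gu a ha) (rr e) x with hy
  have hym : mat y = dM (Yc a e X) := by
    rw [Yc, dM_mm, dM_mm, dM_cc, ← gm_gu ha, ← gm_gu_inv ha, ← hxm]
    rfl
  -- orders
  have hx7 : orderOf x = 7 := by
    have : Fact (Nat.Prime 7) := ⟨by norm_num⟩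
    apply orderOf_eq_prime
    · apply mat_injective
      have : ∀ k : ℕ, mat (x ^ k) = mat x ^ k := by
        intro k
        induction k with
        | zero => rw [pow_zero, pow_zero, mat_one]
        | succ k ih => rw [pow_succ, pow_succ, mat_mul, ih]
      rw [this, hxm, hX.pow, mat_one]
    · intro h
      apply hX.ne
      rw [← hxm, h, mat_one]
  have hy7 : orderOf y = 7 := by
    rw [hy, ← hx7]
    exact MulEquiv.orderOf_eq _ _
  obtain ⟨i, hi⟩ := hP
  set! u : Cfsg.SU 4 F9 3 := x ^ i * y with hu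
  have hpw : ∀ (z : Cfsg.SU 4 F9 3) (k : ℕ), mat (z ^ k) = mat z ^ k := by
    intro z k
    induction k with
    | zero => rw [pow_zero, pow_zero, mat_one]
    | succ k ih => rw [pow_succ, pow_succ, mat_mul, ih]
  have hum : mat u = dM (mm P (Yc a e X)) := by
    rw [hu, mat_mul, hpw, hxm, hym, ← hi, dM_mm]
  rw [cert, Bool.and_eq_true, Bool.and_eq_true] at hc
  obtain ⟨hc1, hc2, hc3⟩ := hc
  refine ⟨pr 4 F9 3 x, fun K hxK hK => ?_⟩
  by_contra hne
  have hyK : pr 4 F9 3 y ∈ K := by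
    have := hK _ hxK
    rwa [toAut_pr] at this
  have hne' : K.comap (pr 4 F9 3) ≠ ⊤ := by
    intro h
    apply hne
    rw [eq_top_iff]
    intro z _
    obtain ⟨w, rfl⟩ := pr_surjective z
    have : w ∈ K.comap (pr 4 F9 3) := by rw [h]; trivial
    exact this
  obtain ⟨N, hN, hKN⟩ := (eq_top_or_exists_le_coatom (K.comap (pr 4 F9 3))).resolve_left hne'
  have hxN : x ∈ N := hKN hxK
  have hyN : y ∈ N := hKN hyK
  have huN : u ∈ N := N.mul_mem (N.pow_mem hxN i) hyN
  have hmax := isMaximalIn_map suHom_injective (range_suHom (n := 4) (F := F9) (q := 3)) hN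
  have hxo : orderOf (suHom 4 F9 3 x) = 7 := by rw [orderOf_injective _ suHom_injective, hx7]
  have hyo : orderOf (suHom 4 F9 3 y) = 7 := by rw [orderOf_injective _ suHom_injective, hy7]
  have h9 : (suHom 4 F9 3 u) ^ 9 ∈ scalars (Fin 4) F9 := by
    obtain ⟨c, hc⟩ := isS_spec hc1
    rw [dM_cb, dM_cb, ← hum, ← pow_mul] at hc
    rw [mem_scalars_iff]
    have hc' : ((((suHom 4 F9 3 u) ^ 9 : GL (Fin 4) F9)) : Matrix (Fin 4) (Fin 4) F9) = c • 1 := by
      rw [Units.val_pow_eq_pow_val]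
      exact hc
    have hc0 : c ≠ 0 := by
      rintro rfl
      rw [zero_smul] at hc'
      exact ((suHom 4 F9 3 u) ^ 9).ne_zero hc'
    exact ⟨Units.mk0 c hc0, hc'⟩
  have h3 : (suHom 4 F9 3 u) ^ 3 ∉ scalars (Fin 4) F9 := by
    intro h
    obtain ⟨c, hc⟩ := (mem_scalars_iff _).1 h
    refine nS_spec hc2 (c : F9) ?_
    rw [dM_cb, ← hum]
    rw [Units.val_pow_eq_pow_val] at hc
    exact hc
  rcases cases_of hF9 (p := 3) (f := 1) (s := 7) Nat.prime_three (by norm_num) le_rfl (by norm_num) div_iff ord_q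
    le_rfl hR hmax (x := suHom 4 F9 3 x) ⟨x, hxN, rfl⟩ hxo with ⟨W, hW1, -, hHW⟩ | ⟨Q, -, hQ, eQ⟩ | ⟨Q, -, hQ, eQ⟩
  · have hq2 : finrank F9 W < orderOf ((3 ^ 2 : ℕ) : ZMod 7) := by rw [ord_q2, hW1]; norm_num
    have h1 := le_fx hF9 (by norm_num) ord_q (by norm_num) hxo (GeoU.inv_of_mem (hHW ⟨x, hxN, rfl⟩)) hq2
    have h2 := le_fx hF9 (by norm_num) ord_q (by norm_num) hyo (GeoU.inv_of_mem (hHW ⟨y, hyN, rfl⟩)) hq2
    have h4 := fix_le hF9 (by norm_num) ord_q (by norm_num) (suHom_mem x) hxo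
    have h5 : W = fx (Matrix.toLin' ((suHom 4 F9 3 x : GL (Fin 4) F9) : Matrix (Fin 4) (Fin 4) F9)) := by
      apply Submodule.eq_of_le_of_finrank_eq h1
      have := Submodule.finrank_mono h1
      omega
    apply ne9_spec hc3
    rw [dM_mm, ← hym]
    have hcol : ∀ (M : Matrix (Fin 4) (Fin 4) F9) (j i : Fin 4), (M * dM V) i j = (M *ᵥ fun k => dM V k j) i :=
      fun M j i => rfl
    refine Matrix.ext fun i j => ?_
    have h6 : (fun k => dM V k j) ∈ fx (Matrix.toLin' ((suHom 4 F9 3 x : GL (Fin 4) F9) : Matrix (Fin 4) (Fin 4) F9)) := by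
      rw [mem_fx, Matrix.toLin'_apply]
      funext k
      rw [← hcol, show ((suHom 4 F9 3 x : GL (Fin 4) F9) : Matrix (Fin 4) (Fin 4) F9) = dM X from rfl, hX.fix]
    rw [← h5] at h6
    have h7 := mem_fx.1 (h2 h6)
    rw [Matrix.toLin'_apply] at h7
    exact congrFun h7 i
  · exact core_nine hQ (Or.inl eQ) ⟨u, huN, rfl⟩ h9 h3
  · exact core_nine hQ (Or.inr eQ) ⟨u, huN, rfl⟩ h9 h3

end Cfsg.Agent.H833.Spr4.Code
end

-- part: H833/Spr4/CGrp
section
/-!
# S3938, `PSU_4(3)`: coded groups of automorphisms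

`cgrp` : the subgroup of order `m n` given by two coded groups.
-/

set_option autoImplicit false

namespace Cfsg.Agent.H833.Spr4.Code

open Cfsg Cfsg.Geo Module Cfsg.Agent.ChevalleyStructure.NineField Cfsg.Agent.LieClassical
  Cfsg.Agent.ClassicalGeometry.PSUAutCount Cfsg.Agent.ClassicalGeometry.UnitAutBasic Cfsg.Agent.LieClassical.HermSiegel
  Cfsg.Agent.LieClassical.FieldTransfer
open scoped Matrix MatrixGroups

/-- tables of matrices -/
def tM (T k : ℕ) : ℕ := Nat.mod (Nat.shiftRight T (Nat.mul 64 k)) 18446744073709551616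
/-- tables of indices -/
def tI (T k : ℕ) : ℕ := Nat.mod (Nat.shiftRight T (Nat.mul 8 k)) 256

/-- all indices `a ≤ i < a + n` -/
def alla (p : ℕ → Bool) : ℕ → ℕ → Bool
  | _, 0 => true
  | a, n + 1 => p a && alla p (Nat.succ a) n

theorem alla_cut {p : ℕ → Bool} : ∀ (k : ℕ) {a n : ℕ}, k ≤ n → alla p a k = true → alla p (a + k) (n - k) = true →
    alla p a n = true
  | 0, _, _, _, _, h => h
  | _ + 1, _, 0, h, _, _ => absurd h (by omega)
  | k + 1, a, n + 1, h, h1, h2 => by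
    have h3 : (p a && alla p (Nat.succ a) k) = true := h1
    rw [Bool.and_eq_true] at h3
    show (p a && alla p (Nat.succ a) n) = true
    rw [Bool.and_eq_true]
    refine ⟨h3.1, alla_cut k (by omega) h3.2 ?_⟩
    rw [Nat.add_sub_add_right] at h2
    rw [show a.succ + k = a + (k + 1) by omega]
    exact h2

theorem alla_spec {p : ℕ → Bool} : ∀ {n a : ℕ}, alla p a n = true → ∀ {i : ℕ}, a ≤ i → i < a + n → p i = true := by
  intro n
  induction n with
  | zero => intro a _ i h1 h2; omega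
  | succ n ih =>
    intro a h i h1 h2
    rw [alla, Bool.and_eq_true] at h
    rcases Nat.eq_or_lt_of_le h1 with rfl | h3
    · exact h.1
    · exact ih h.2 h3 (by omega)

/-- `i` runs over `0 ≤ i < n` -/
theorem all_spec {p : ℕ → Bool} {n : ℕ} (h : alla p 0 n = true) {i : ℕ} (hi : i < n) : p i = true :=
  alla_spec h (Nat.zero_le _) (by omega)

/-- a linear functional -/
def ell (L R x : ℕ) : ℕ := en (mm (mm L x) R) 0

theorem ell_eq {L R x y : ℕ} {c : F9} (hx : ell L R x = 1) (hy : ell L R y = 1) (h : dM y = c • dM x) :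
    dM y = dM x := by
  have h1 : dM (mm (mm L x) R) 0 0 = d9 1 := by
    rw [dM_apply]
    exact congrArg d9 hx
  have h2 : dM (mm (mm L y) R) 0 0 = d9 1 := by
    rw [dM_apply]
    exact congrArg d9 hy
  have h3 : dM (mm (mm L y) R) = c • dM (mm (mm L x) R) := by
    rw [dM_mm, dM_mm, dM_mm, dM_mm, h, Matrix.mul_smul, Matrix.smul_mul]
  rw [h3, Matrix.smul_apply, h1, smul_eq_mul] at h2
  have h4 : d9 1 = 1 := by decide +kernel
  rw [h4, mul_one] at h2
  rw [h, h2, one_smul]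

/-- the data of a coded group with twists -/
structure CG (T : ℕ) (e : ℕ → ℕ) (n L R : ℕ) : Prop where
  pos : 0 < n
  uni : ∀ i, i < n → Uni (tM T i)
  elt : ∀ i, i < n → e i < 2
  ell : ∀ i, i < n → ell L R (tM T i) = 1
  ne : ∀ i, i < n → ∀ j, j < i → e i = e j → dM (tM T i) ≠ dM (tM T j)
  mul : ∀ i, i < n → ∀ j, j < n → ∃ k, k < n ∧ dM (mm (tM T i) (cc (e i) (tM T j))) = dM (tM T k) ∧
    (e i + e j) % 2 = e k

/-- the elements of a coded group -/
noncomputable def cg (T : ℕ) (e : ℕ → ℕ) (i : ℕ) : MulAut (PSU 4 F9 3) := au (tM T i) (e i)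

variable {T n L R : ℕ} {e : ℕ → ℕ}

theorem au_congr {a b : ℕ} (ha : Uni a) (f : ℕ) (h : dM a = dM b) : au a f = au b f := by
  have hb : Uni b := by
    rw [uni_iff, ← h, ← uni_iff]
    exact ha
  refine (au_smul f ha hb (c := 1) (by norm_num) (by rw [h, one_smul])).symm

theorem CG.inj (h : CG T e n L R) {i j : ℕ} (hi : i < n) (hj : j < n) (hij : cg T e i = cg T e j) : i = j := by
  obtain ⟨h1, c, h2⟩ := au_eq (h.uni i hi) (h.uni j hj) (h.elt i hi) (h.elt j hj) hij
  have h3 := ell_eq (h.ell i hi) (h.ell j hj) h2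
  rcases lt_trichotomy i j with h4 | h4 | h4
  · exact absurd h3 (h.ne j hj i h4 h1.symm)
  · exact h4
  · exact absurd h3.symm (h.ne i hi j h4 h1)

theorem CG.prod (h : CG T e n L R) {i j : ℕ} (hi : i < n) (hj : j < n) :
    ∃ k, k < n ∧ cg T e i * cg T e j = cg T e k := by
  obtain ⟨k, hk, h1, h2⟩ := h.mul i hi j hj
  refine ⟨k, hk, ?_⟩
  rw [cg, cg, cg, au_mul (h.uni i hi) (h.uni j hj) (h.elt i hi) (h.elt j hj), h2]
  exact au_congr (uni_mm (h.uni i hi) (h.uni j hj) _) _ h1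

/-- **the product of two coded groups** -/
theorem cgrp {T' n' : ℕ} {e' : ℕ → ℕ} (hA : CG T (fun _ => 0) n L R) (hB : CG T' e' n' L R)
    (hBA : ∀ j, j < n' → ∀ i, i < n → ∃ k, k < n ∧ ∃ c : F9,
      dM (mm (tM T' j) (cc (e' j) (tM T i))) = c • dM (mm (tM T k) (tM T' j)))
    (h1 : ∀ i, i < n → ∀ j, j < n' → e' j = 0 → dM (tM T i) = dM (tM T' j) → dM (tM T i) = 1) :
    ∃ S : Subgroup (MulAut (PSU 4 F9 3)), Nat.card S = n * n' ∧
      ∀ s ∈ S, ∃ i j, i < n ∧ j < n' ∧ s = au (mm (tM T i) (tM T' j)) (e' j) := by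
  have hfinP : Finite (PSU 4 F9 3) := Finite.of_surjective _ (pr_surjective (n := 4) (F := F9) (q := 3))
  have hfinM : Finite (MulAut (PSU 4 F9 3)) :=
    Finite.of_injective (fun α : MulAut (PSU 4 F9 3) => (α : PSU 4 F9 3 → PSU 4 F9 3))
      (fun α β h => MulEquiv.ext fun x => congrFun h x)
  obtain ⟨S, hS, hS'⟩ := prod_subgroup hA.pos hB.pos (fun i : Fin n => cg T (fun _ => 0) i) (fun j : Fin n' => cg T' e' j)
    (fun i i' => by
      obtain ⟨k, hk, h⟩ := hA.prod i.2 i'.2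
      exact ⟨⟨k, hk⟩, h⟩)
    (fun i i' => by
      obtain ⟨k, hk, h⟩ := hB.prod i.2 i'.2
      exact ⟨⟨k, hk⟩, h⟩)
    (fun j i => by
      obtain ⟨k, hk, c, h⟩ := hBA j j.2 i i.2
      refine ⟨⟨k, hk⟩, ?_⟩
      have e1 : cg T' e' j * cg T (fun _ => 0) i = au (mm (tM T' j) (cc (e' j) (tM T i))) (e' j) := by
        rw [cg, cg, au_mul (hB.uni j j.2) (hA.uni i i.2) (hB.elt j j.2) (by norm_num), Nat.add_zero,
          Nat.mod_eq_of_lt (hB.elt j j.2)]
      have e2 : cg T (fun _ => 0) k * cg T' e' j = au (mm (tM T k) (tM T' j)) (e' j) := by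
        rw [cg, cg, au_mul (hA.uni k hk) (hB.uni j j.2) (by norm_num) (hB.elt j j.2), Nat.zero_add,
          Nat.mod_eq_of_lt (hB.elt j j.2)]
        rfl
      have hu1 := uni_mm (hB.uni j j.2) (hA.uni i i.2) (e' j)
      have hu2 := uni_mm (hA.uni k hk) (hB.uni j j.2) 0
      dsimp only
      rw [e1, e2]
      exact au_smul _ hu2 hu1 (smul_uni hu2 hu1 h) h)
    (fun i i' h => Fin.ext (hA.inj i.2 i'.2 h))
    (fun i i' h => Fin.ext (hB.inj i.2 i'.2 h))
    (fun i j h => by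
      obtain ⟨h2, c, h3⟩ := au_eq (hA.uni i i.2) (hB.uni j j.2) (hA.elt i i.2) (hB.elt j j.2) h
      have h4 := ell_eq (hA.ell i i.2) (hB.ell j j.2) h3
      have h5 := h1 i i.2 j j.2 h2.symm h4.symm
      change au (tM T i) 0 = 1
      rw [← au_one]
      exact au_congr (hA.uni i i.2) _ (h5.trans dM_one.symm))
  refine ⟨S, hS, fun s hs => ?_⟩
  obtain ⟨i, j, rfl⟩ := hS' s hs
  refine ⟨i, j, i.2, j.2, ?_⟩
  rw [cg, cg, au_mul (hA.uni i i.2) (hB.uni j j.2) (by norm_num) (hB.elt j j.2), Nat.zero_add,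
    Nat.mod_eq_of_lt (hB.elt j j.2)]
  rfl

/-- the unitarity check -/
def k1 (T : ℕ) (e : ℕ → ℕ) (L R i : ℕ) : Bool :=
  isU (tM T i) && (Nat.blt (e i) 2 && Nat.beq (ell L R (tM T i)) 1)

/-- the check that the elements are different -/
def k2 (T : ℕ) (e : ℕ → ℕ) (i : ℕ) : Bool :=
  alla (fun j => !(Nat.beq (e i) (e j)) || ne9 (tM T i) (tM T j)) 0 i

/-- the product check -/
def k3 (T : ℕ) (e : ℕ → ℕ) (n I i : ℕ) : Bool :=
  alla (fun j => Nat.beq (mm (tM T i) (cc (e i) (tM T j))) (tM T (tI I (Nat.add (Nat.mul n i) j))) &&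
    (Nat.blt (tI I (Nat.add (Nat.mul n i) j)) n &&
      Nat.beq (Nat.mod (Nat.add (e i) (e j)) 2) (e (tI I (Nat.add (Nat.mul n i) j))))) 0 n

theorem cg_of {I : ℕ} (h0 : 0 < n) (h1 : ∀ i, i < n → k1 T e L R i = true) (h2 : ∀ i, i < n → k2 T e i = true)
    (h3 : ∀ i, i < n → k3 T e n I i = true) : CG T e n L R where
  pos := h0
  uni i hi := by
    have h := h1 i hi
    rw [k1, Bool.and_eq_true, Bool.and_eq_true] at h
    exact isU_spec h.1
  elt i hi := by
    have h := h1 i hi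
    rw [k1, Bool.and_eq_true, Bool.and_eq_true] at h
    exact Nat.le_of_ble_eq_true h.2.1
  ell i hi := by
    have h := h1 i hi
    rw [k1, Bool.and_eq_true, Bool.and_eq_true, Nat.beq_eq] at h
    exact h.2.2
  ne i hi j hj he := by
    have h := all_spec (h2 i hi) hj
    rw [Bool.or_eq_true, Bool.not_eq_true', ← Bool.not_eq_true, Nat.beq_eq] at h
    exact ne9_spec (h.resolve_left fun h4 => h4 he)
  mul i hi j hj := by
    have h := all_spec (h3 i hi) hj
    rw [Bool.and_eq_true, Bool.and_eq_true, Nat.beq_eq, Nat.beq_eq] at h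
    exact ⟨_, Nat.le_of_ble_eq_true h.2.1, congrArg dM h.1, h.2.2⟩

/-- the second product check -/
def k4 (T T' : ℕ) (e' : ℕ → ℕ) (n K Q j : ℕ) : Bool :=
  alla (fun i => Nat.beq (mm (tM T' j) (cc (e' j) (tM T i)))
    (mm (sK (en Q (Nat.add (Nat.mul n j) i))) (mm (tM T (tI K (Nat.add (Nat.mul n j) i))) (tM T' j))) &&
    Nat.blt (tI K (Nat.add (Nat.mul n j) i)) n) 0 n

theorem k4_spec {T' K Q j : ℕ} {e' : ℕ → ℕ} (h : k4 T T' e' n K Q j = true) (i : ℕ) (hi : i < n) :
    ∃ k, k < n ∧ ∃ c : F9, dM (mm (tM T' j) (cc (e' j) (tM T i))) = c • dM (mm (tM T k) (tM T' j)) := by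
  have h := all_spec h hi
  rw [Bool.and_eq_true, Nat.beq_eq] at h
  refine ⟨_, Nat.le_of_ble_eq_true h.2, d9 (en Q (Nat.add (Nat.mul n j) i)), ?_⟩
  rw [h.1, dM_mm (sK _), sK_spec (en_lt _ _), Matrix.smul_mul, Matrix.one_mul]

/-- the intersection check -/
def k5 (T T' : ℕ) (e' : ℕ → ℕ) (n' i : ℕ) : Bool :=
  alla (fun j => !(Nat.beq (e' j) 0) || (ne9 (tM T i) (tM T' j) || Nat.beq (tM T i) (sK 1))) 0 n'

theorem k5_spec {T' n' i : ℕ} {e' : ℕ → ℕ} (h : k5 T T' e' n' i = true) (j : ℕ) (hj : j < n') (he : e' j = 0)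
    (hd : dM (tM T i) = dM (tM T' j)) : dM (tM T i) = 1 := by
  have h := all_spec h hj
  rw [Bool.or_eq_true, Bool.or_eq_true, Bool.not_eq_true', ← Bool.not_eq_true, Nat.beq_eq, Nat.beq_eq] at h
  rcases h with h | h | h
  · exact absurd he h
  · exact absurd hd (ne9_spec h)
  · rw [h, dM_one]

theorem finite_aut : Finite (MulAut (PSU 4 F9 3)) := by
  have hfinP : Finite (PSU 4 F9 3) := Finite.of_surjective _ (pr_surjective (n := 4) (F := F9) (q := 3))
  exact Finite.of_injective (fun α : MulAut (PSU 4 F9 3) => (α : PSU 4 F9 3 → PSU 4 F9 3))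
      (fun α β h => MulEquiv.ext fun x => congrFun h x)

theorem card_aut : Nat.card (MulAut (PSU 4 F9 3)) = 26127360 := by
  have hf : Fact (Nat.Prime 3) := ⟨Nat.prime_three⟩
  have hc := S0280.result (F := F9) (q := 3) hF9 4 (by norm_num)
  rw [Cfsg.Agent.S0815.result (F := F9) 3 1 le_rfl (q := 3) (by norm_num) hF9 4 (by norm_num) (by norm_num)]
  simp only [Finset.prod_range_succ, Finset.prod_range_zero] at hc
  generalize Nat.card (PSU 4 F9 3) = N at hc ⊢
  have h1 : Nat.gcd 4 (3 + 1) = 4 := by decide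
  rw [h1] at hc ⊢
  norm_num at hc
  have h2 : (if Even (3 + 1) then (80 : ℕ) else 82) = 80 := by decide
  omega

theorem conj_facts {G : Type*} [Group G] {r : ℕ} (hr : r.Prime) {α : G} (h : orderOf α = r) (g : G) :
    (g⁻¹ * α * g) ^ r = 1 ∧ g⁻¹ * α * g ≠ 1 := by
  have h1 : (g⁻¹ * α * g) ^ r = g⁻¹ * α ^ r * g := by
    have := conj_pow (a := g⁻¹) (b := α) (i := r)
    rwa [inv_inv] at this
  refine ⟨by rw [h1, ← h, pow_orderOf_eq_one]; group, fun h2 => ?_⟩
  have h3 : α = 1 := by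
    calc α = g * (g⁻¹ * α * g) * g⁻¹ := by group
      _ = 1 := by rw [h2]; group
  rw [h3, orderOf_one] at h
  exact hr.one_lt.ne h

/-- powers -/
def pwc (X : ℕ) : ℕ → ℕ
  | 0 => sK 1
  | k + 1 => mm (pwc X k) X

theorem dM_pwc (X k : ℕ) : dM (pwc X k) = dM X ^ k := by
  induction k with
  | zero => rw [pwc, dM_one, pow_zero]
  | succ k ih => rw [pwc, dM_mm, ih, pow_succ]

/-- the check of the elements of order seven -/
def kD (X V P J w : ℕ) : Bool := tS (tM X w) (tM V w) && Nat.beq (tM P w) (pwc (tM X w) (en J w))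

theorem kD_spec {X V P J w : ℕ} (h : kD X V P J w = true) :
    Sev (tM X w) (tM V w) ∧ ∃ i, dM (tM P w) = dM (tM X w) ^ i := by
  rw [kD, Bool.and_eq_true, Nat.beq_eq] at h
  exact ⟨tS_spec h.1, _, by rw [h.2, dM_pwc]⟩

/-- an element with trivial square, or a certificate -/
def k6 (a e X V P w : ℕ) : Bool :=
  nS (mm a (cc e a)) || ((Nat.beq e 0 && isS a) || cert a e (tM X w) (tM V w) (tM P w))

/-- an element with trivial cube, or a certificate -/
def k7 (a X V P w : ℕ) : Bool :=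
  nS (cb a) || (isS a || cert a 0 (tM X w) (tM V w) (tM P w))

theorem au_scalar {a : ℕ} (ha : Uni a) (h : isS a = true) : au a 0 = 1 := by
  obtain ⟨c, hc⟩ := isS_spec h
  rw [← au_one]
  rw [← dM_one] at hc
  exact au_smul 0 uni_one ha (smul_uni uni_one ha hc) hc

theorem not_one_of_nS {a e : ℕ} (ha : Uni a) (he : e < 2) (h : nS a = true) : au a e ≠ 1 := by
  intro h1
  rw [← au_one] at h1
  obtain ⟨-, c, h2⟩ := au_eq uni_one ha (by norm_num) he h1.symm
  rw [dM_one] at h2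
  exact nS_spec h c h2

theorem k6_spec (hR : ResList F9 3) {a e X V P J w : ℕ} (ha : Uni a) (he : e < 2) (hD : kD X V P J w = true)
    (h : k6 a e X V P w = true) (h2 : au a e ^ 2 = 1) (h1 : au a e ≠ 1) : Good (au a e) := by
  obtain ⟨hS, hP⟩ := kD_spec hD
  rw [k6, Bool.or_eq_true, Bool.or_eq_true, Bool.and_eq_true, Nat.beq_eq] at h
  rcases h with h | ⟨h3, h4⟩ | h
  · exfalso
    rw [pow_two, au_mul ha ha he he] at h2
    exact not_one_of_nS (uni_mm ha ha e) (Nat.mod_lt _ (by norm_num)) h h2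
  · subst h3
    exact absurd (au_scalar ha h4) h1
  · rw [au_def ha]
    exact good_of_cert hR (gm_gu ha) hS hP h

theorem k7_spec (hR : ResList F9 3) {a X V P J w : ℕ} (ha : Uni a) (hD : kD X V P J w = true)
    (h : k7 a X V P w = true) (h2 : au a 0 ^ 3 = 1) (h1 : au a 0 ≠ 1) : Good (au a 0) := by
  obtain ⟨hS, hP⟩ := kD_spec hD
  rw [k7, Bool.or_eq_true, Bool.or_eq_true] at h
  rcases h with h | h4 | h
  · exfalso
    have e1 : au a 0 ^ 3 = au (cb a) 0 := by
      rw [pow_succ', pow_two, au_mul ha ha (by norm_num) (by norm_num), au_mul ha (uni_mm ha ha 0) (by norm_num) (by norm_num)]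
      rfl
    rw [e1] at h2
    exact not_one_of_nS (uni_mm ha (uni_mm ha ha 0) 0) (by norm_num) h h2
  · exact absurd (au_scalar ha h4) h1
  · rw [au_def ha]
    exact good_of_cert hR (gm_gu ha) hS hP h

end Cfsg.Agent.H833.Spr4.Code
end

private theorem dce_e61bf989091d : _root_.True := by
  try have : _root_.True := by simp only [_root_.Cfsg.Agent.H833.Spr4.Code.pwc.eq_2]
  try have : _root_.True := by simp only [_root_.Cfsg.Agent.H833.Spr4.Code.cb.eq_1]
  try have : _root_.True := by simp only [_root_.Cfsg.Agent.H833.Spr4.Code.pwc.eq_1]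
  try have : _root_.True := by simp only [_root_.Cfsg.Agent.H833.Spr4.Code.cg.eq_1]
  try have : _root_.True := by simp only [_root_.Cfsg.Agent.H833.Spr4.Code.au.eq_1]
  try have : _root_.True := by simp only [_root_.Cfsg.Agent.H833.Spr4.Code.dt.eq_1]
  try have : _root_.True := by simp only [_root_.Cfsg.Agent.H833.Spr4.Code.alla.eq_1]
  try have : _root_.True := by simp only [_root_.Cfsg.Agent.H833.Spr4.Code.alla.eq_def]
  try have : _root_.True := by simp only [_root_.Cfsg.Agent.H833.Spr4.Code.isS.eq_1]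
  try have : _root_.True := by simp only [_root_.Cfsg.Agent.H833.Spr4.Code.cert.eq_1]
  try have : _root_.True := by simp only [_root_.Cfsg.Agent.H833.Spr4.Code.Uni.eq_1]
  try have : _root_.True := by simp only [_root_.Cfsg.Agent.H833.Spr4.Code.pwc.eq_def]
  try have : _root_.True := by simp only [_root_.Cfsg.Agent.H833.Spr4.Code.k7.eq_1]
  try have : _root_.True := by simp only [_root_.Cfsg.Agent.H833.Spr4.Code.isU.eq_1]
  try have : _root_.True := by simp only [_root_.Cfsg.Agent.H833.Spr4.Code.Yc.eq_1]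
  try have : _root_.True := by simp only [_root_.Cfsg.Agent.H833.Spr4.Code.kD.eq_1]
  try have : _root_.True := by simp only [_root_.Cfsg.Agent.H833.Spr4.Code.ne9.eq_1]
  try have : _root_.True := by simp only [_root_.Cfsg.Agent.H833.Spr4.Code.tS.eq_1]
  try have : _root_.True := by simp only [_root_.Cfsg.Agent.H833.Spr4.Code.alla.eq_2]
  try have : _root_.True := by simp only [_root_.Cfsg.Agent.H833.Spr4.Code.k1.eq_1]
  try have : _root_.True := by simp only [_root_.Cfsg.Agent.H833.Spr4.Code.k6.eq_1]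
  exact _root_.True.intro
end

-- part: H833/Spr4/Two
section
prune_inst 0x4000000042000000000050200000000200000000000000040000000004000600d002000000000000800180000000040000000000000000000000000000100000000000001000000000000000080000000000000000000000000000000000000000000000
set_option linter.all false
open scoped Cfsg.Agent.FastGrp

-- part: H833/Spr4/Crit2
section
/-!
# S3938, `PSU_n(q)`: the criterion `U2` in `GL_n(q²)`
-/

set_option autoImplicit false
set_option linter.unusedSectionVars false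

namespace Cfsg.Agent.H833.Spr4

open Cfsg Cfsg.Geo Module Cfsg.Agent.H918 Cfsg.Agent.H251 Cfsg.Agent.H951 Cfsg.Agent.H834.Cov
open Cfsg.Agent.H424.Spr (Spr)
open scoped Matrix MatrixGroups

section crit

variable {F : Type} [Field F] [Fintype F] {n q : ℕ}

theorem center_le_of (hF : Fintype.card F = q ^ 2) (hn : 3 ≤ n) {M : Subgroup (GL (Fin n) F)}
    (hM : scalars (Fin n) F ≤ M) : Subgroup.center (Cfsg.SU n F q) ≤ M.comap (suHom n F q) := by
  intro A hA
  rw [Cfsg.Agent.LieClassical.SUBasic.mem_center_SU_iff hF hn] at hA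
  obtain ⟨c, hcn, hcq, hA⟩ := hA
  apply hM
  rw [Cfsg.Geo.mem_scalars_iff]
  have hc0 : c ≠ 0 := by
    rintro rfl
    rw [zero_pow (by omega)] at hcn
    exact zero_ne_one hcn
  refine ⟨Units.mk0 c hc0, ?_⟩
  rw [coe_suHom, hA]
  simp [Matrix.smul_one_eq_diagonal]

theorem comap_conj (M : Subgroup (GL (Fin n) F)) (y : Cfsg.SU n F q) (hy : suHom n F q y ∈ M) :
    (M.comap (suHom n F q)).map (MulAut.conj y).toMonoidHom = M.comap (suHom n F q) := by
  have key : ∀ z : Cfsg.SU n F q, suHom n F q z ∈ M → ∀ x ∈ M.comap (suHom n F q), z * x * z⁻¹ ∈ M.comap (suHom n F q) := by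
    intro z hz x hx
    have hx' : suHom n F q x ∈ M := hx
    change suHom n F q (z * x * z⁻¹) ∈ M
    rw [map_mul, map_mul, map_inv]
    exact Subgroup.mul_mem _ (Subgroup.mul_mem _ hz hx') (Subgroup.inv_mem _ hz)
  apply le_antisymm
  · rintro _ ⟨x, hx, rfl⟩
    exact key y hy x hx
  · intro x hx
    refine ⟨y⁻¹ * x * y, ?_, ?_⟩
    · have := key y⁻¹ (by rw [map_inv]; exact Subgroup.inv_mem _ hy) x hx
      rwa [inv_inv] at this
    · change y * (y⁻¹ * x * y) * y⁻¹ = x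
      group

/-- **U2 for `PSU_n(q)`** -/
theorem spr_two_of (hF : Fintype.card F = q ^ 2) (hn : 3 ≤ n) (h32 : ¬ (n = 3 ∧ q = 2)) {s : GL (Fin n) F}
    (hs : s ∈ SUg n F q) {M₁ M₂ : Subgroup (GL (Fin n) F)} (h1 : ¬ SUg n F q ≤ M₁) (h2 : ¬ SUg n F q ≤ M₂)
    (hc1 : scalars (Fin n) F ≤ M₁) (hc2 : scalars (Fin n) F ≤ M₂) (hs2 : s ∈ M₂)
    (hnc : ∀ y ∈ SUg n F q, y⁻¹ * s * y ∈ M₁ → y ∈ M₁)
    (h : ∀ H, IsMaximalIn (SUg n F q) H → s ∈ H → H ≤ M₁ ∨ H ≤ M₂) : Spr (PSU n F q) := by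
  have hfin : Finite (Cfsg.SU n F q) := inferInstance
  have hsim := Cfsg.Agent.S0283.result hF n hn h32
  have hna := hna_psu hF hn h32
  obtain ⟨s', rfl⟩ := exists_suHom hs
  have htop : ∀ M : Subgroup (GL (Fin n) F), ¬ SUg n F q ≤ M → M.comap (suHom n F q) ≠ ⊤ := by
    intro M hM htop
    apply hM
    rw [← range_suHom]
    rintro _ ⟨A, rfl⟩
    have : A ∈ M.comap (suHom n F q) := by rw [htop]; trivial
    exact this
  refine H424.Spr.spr_of_two_up (G := Cfsg.SU n F q) hna (QuotientGroup.mk' _) (QuotientGroup.mk'_surjective _) (s := s')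
    (M₁ := M₁.comap (suHom n F q)) (M₂ := M₂.comap (suHom n F q)) ?_ ?_ (htop _ h1) (htop _ h2) ?_ ?_
  · rw [QuotientGroup.ker_mk']
    exact center_le_of hF hn hc1
  · rw [QuotientGroup.ker_mk']
    exact center_le_of hF hn hc2
  · intro y hy
    have h3 : s' ∈ (M₁.comap (suHom n F q)).map (MulAut.conj y).toMonoidHom := by
      rw [hy]
      exact hs2
    obtain ⟨x, hx, hxs⟩ := h3
    have hxs' : y * x * y⁻¹ = s' := hxs
    have h4 : suHom n F q y ∈ M₁ := by
      apply hnc _ (suHom_mem y)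
      rw [← hxs', map_mul, map_mul, map_inv]
      have h5 : (suHom n F q y)⁻¹ * (suHom n F q y * suHom n F q x * (suHom n F q y)⁻¹) * suHom n F q y =
          suHom n F q x := by group
      rw [h5]
      exact hx
    rw [← hy, comap_conj M₁ y h4]
  · intro K _ hsK hK
    obtain ⟨i, hi⟩ := cover_of (ι := Bool) (M := fun b => if b then M₁ else M₂) (fun H hH hsH => by
      rcases h H hH hsH with h3 | h3
      · exact ⟨true, h3⟩
      · exact ⟨false, h3⟩) K hsK hK
    cases i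
    · exact Or.inr hi
    · exact Or.inl hi

theorem scalars_le_sub (W : Submodule F (Fin n → F)) : scalars (Fin n) F ≤ subspaceStabilizer W := by
  intro x hx
  obtain ⟨c, hc⟩ := (mem_scalars_iff _).1 hx
  rw [mem_subspaceStabilizer]
  intro v
  rw [hc, Matrix.smul_mulVec, Matrix.one_mulVec]
  exact (Submodule.smul_mem_iff _ c.ne_zero).symm

theorem scalars_le_dec {t : ℕ} (D : Fin t → Submodule F (Fin n → F)) :
    scalars (Fin n) F ≤ decompositionStabilizer D := by
  intro x hx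
  obtain ⟨c, hc⟩ := (mem_scalars_iff _).1 hx
  refine ⟨1, fun i => ?_⟩
  rw [Equiv.Perm.one_apply]
  ext v
  rw [Submodule.mem_map]
  constructor
  · rintro ⟨w, hw, rfl⟩
    rw [Matrix.toLin'_apply, hc, Matrix.smul_mulVec, Matrix.one_mulVec]
    exact Submodule.smul_mem _ _ hw
  · intro hv
    refine ⟨(c : F)⁻¹ • v, Submodule.smul_mem _ _ hv, ?_⟩
    rw [Matrix.toLin'_apply, hc, Matrix.smul_mulVec, Matrix.one_mulVec, smul_smul, mul_inv_cancel₀ c.ne_zero, one_smul]

end crit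

end Cfsg.Agent.H833.Spr4
end

-- part: H833/Spr4/Two
section
/-!
# S3938: `Spr (PSU_4(2))`
-/

set_option autoImplicit false
set_option linter.unusedSectionVars false

namespace Cfsg.Agent.H833.Spr4.Two

open Cfsg Cfsg.Geo Module Cfsg.Agent.H918 Cfsg.Agent.H251 Cfsg.Agent.H951 Cfsg.Agent.H834.Cov
open Cfsg.Agent.LieClassical
open Cfsg.Agent.SporRec.GF4
open Cfsg.Agent.H424.Spr (Spr)
open scoped Matrix MatrixGroups

/-- the element of order 9 -/
def G : Matrix (Fin 4) (Fin 4) F4 := !![.z, .z, .w, .z; .o, .z, .z, .z; .z, .o, .z, .z; .z, .z, .z, .v]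

theorem hF : Fintype.card F4 = 2 ^ 2 := rfl

theorem G_isom : Gᵀ * G.map (GUOrder.frob hF) = 1 := by decide +kernel

theorem G_det : G.det = 1 := by decide +kernel

theorem G_mulVec (x : Fin 4 → F4) : G *ᵥ x = ![F4.w * x 2, x 0, x 1, F4.v * x 3] := by
  have h : ∀ y : F4, F4.z * y = 0 := fun y => zero_mul y
  have h1 : ∀ y : F4, F4.o * y = y := fun y => one_mul y
  ext i
  (revert i; simp only [G, Matrix.mulVec, dotProduct, Fin.sum_univ_four, h, h1, _root_.Fin.forall_fin_succ, _root_.Matrix.of_apply, _root_.Matrix.cons_val', _root_.Matrix.cons_val_fin_one, Fin.isValue, _root_.Matrix.cons_val_zero, _root_.Matrix.cons_val_one, _root_.Matrix.cons_val, _root_.Nat.succ_eq_add_one, Nat.reduceAdd, _root_.add_zero, _root_.zero_add, _root_.Matrix.cons_val_succ, _root_.implies_true, _root_.and_self])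

theorem herm_eq (x y : Fin 4 → F4) :
    hermForm 4 F4 2 x y = x 0 * (y 0 * y 0) + x 1 * (y 1 * y 1) + x 2 * (y 2 * y 2) + x 3 * (y 3 * y 3) := by
  rw [hermForm, Fin.sum_univ_four]
  simp only [pow_two]

/-- totally isotropic invariant subspaces -/
theorem ts_zero : ∀ a b c d : F4, a * (a * a) + b * (b * b) + c * (c * c) + d * (d * d) = 0 →
    (F4.w * c) * (a * a) + a * (b * b) + b * (c * c) + (F4.v * d) * (d * d) = 0 →
    (F4.w * b) * (a * a) + (F4.w * c) * (b * b) + a * (c * c) + (F4.v * (F4.v * d)) * (d * d) = 0 →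
    (F4.w * a) * (a * a) + (F4.w * b) * (b * b) + (F4.w * c) * (c * c) + (F4.v * (F4.v * (F4.v * d))) * (d * d) = 0 →
    a = 0 ∧ b = 0 ∧ c = 0 ∧ d = 0 := by decide +kernel

/-- eigenvectors -/
theorem eig : ∀ a b c d t : F4, F4.w * c = t * a → a = t * b → b = t * c → F4.v * d = t * d →
    a = 0 ∧ b = 0 ∧ c = 0 := by decide +kernel

/-- the lines of the frames -/
theorem frame_line : ∀ a b c d : F4, a * (a * a) + b * (b * b) + c * (c * c) + d * (d * d) ≠ 0 →
    (F4.w * c) * (a * a) + a * (b * b) + b * (c * c) + (F4.v * d) * (d * d) = 0 →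
    ((F4.w * b) * (a * a) + (F4.w * c) * (b * b) + a * (c * c) + (F4.v * (F4.v * d)) * (d * d) = 0 ∨
      ∃ t : F4, F4.w * b = t * a ∧ F4.w * c = t * b ∧ a = t * c ∧ F4.v * (F4.v * d) = t * d) →
    (b = 0 ∧ c = 0 ∧ d = 0) ∨ (a = 0 ∧ c = 0 ∧ d = 0) ∨ (a = 0 ∧ b = 0 ∧ d = 0) := by decide +kernel

/-- the element of order 9 -/
def g : GL (Fin 4) F4 := suHom 4 F4 2 (H674.SUTools.mkSU hF G G_det G_isom)

theorem g_coe : (g : Matrix (Fin 4) (Fin 4) F4) = G := rfl

theorem g_mem : g ∈ SUg 4 F4 2 := suHom_mem _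

theorem exists_gen {W : Submodule F4 (Fin 4 → F4)} (h : finrank F4 W = 1) : ∃ x, x ≠ 0 ∧ W = Submodule.span F4 {x} := by
  obtain ⟨⟨x, hx⟩, hx0, hxs⟩ := finrank_eq_one_iff'.1 h
  refine ⟨x, fun h0 => hx0 (Subtype.ext h0), le_antisymm (fun y hy => ?_) ?_⟩
  · obtain ⟨t, ht⟩ := hxs ⟨y, hy⟩
    have : t • x = y := congrArg Subtype.val ht
    rw [← this]
    exact Submodule.smul_mem _ _ (Submodule.mem_span_singleton_self x)
  · rw [Submodule.span_singleton_le_iff_mem]
    exact hx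

/-- the coordinate lines -/
def D₀ (i : Fin 4) : Submodule F4 (Fin 4 → F4) := Submodule.span F4 {Pi.single i 1}

theorem span_eq {x : Fin 4 → F4} (hx : x ≠ 0) (i : Fin 4) (h : ∀ j, j ≠ i → x j = 0) :
    Submodule.span F4 {x} = D₀ i := by
  have h1 : x = x i • (Pi.single i 1 : Fin 4 → F4) := by
    funext j
    by_cases hj : j = i
    · subst hj
      simp
    · rw [h j hj, Pi.smul_apply, Pi.single_apply, if_neg hj, smul_zero]
  have h2 : x i ≠ 0 := by
    intro h0
    apply hx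
    rw [h1, h0, zero_smul]
  rw [D₀, h1]
  exact Submodule.span_singleton_smul_eq (IsUnit.mk0 _ (by simpa using h2)) _

theorem line {x : Fin 4 → F4} (hx : x ≠ 0) {t : F4} (h : G *ᵥ x = t • x) : Submodule.span F4 {x} = D₀ 3 := by
  rw [G_mulVec] at h
  have h0 := congrFun h 0
  have h1 := congrFun h 1
  have h2 := congrFun h 2
  have h3 := congrFun h 3
  obtain ⟨e0, e1, e2⟩ := eig (x 0) (x 1) (x 2) (x 3) t h0 h1 h2 h3
  apply span_eq hx
  intro j hj
  fin_cases j
  · exact e0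
  · exact e1
  · exact e2
  · exact absurd rfl hj

theorem dec_le {F : Type} [Field F] {n t : ℕ} {D D' : Fin t → Submodule F (Fin n → F)} (e : Equiv.Perm (Fin t))
    (he : ∀ i, D i = D' (e i)) : decompositionStabilizer D ≤ decompositionStabilizer D' := by
  rintro h ⟨ρ, hρ⟩
  refine ⟨(e.symm.trans ρ).trans e, fun j => ?_⟩
  obtain ⟨i, rfl⟩ := e.surjective j
  have h2 : D' (((e.symm.trans ρ).trans e) (e i)) = D (ρ i) := by
    rw [Equiv.trans_apply, Equiv.trans_apply, Equiv.symm_apply_apply]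
    exact (he (ρ i)).symm
  rw [← he i, h2]
  exact hρ i

theorem dec_eq {F : Type} [Field F] {n t : ℕ} {D D' : Fin t → Submodule F (Fin n → F)} (e : Equiv.Perm (Fin t))
    (he : ∀ i, D i = D' (e i)) : decompositionStabilizer D = decompositionStabilizer D' := by
  apply le_antisymm (dec_le e he)
  apply dec_le e.symm
  intro i
  rw [he, Equiv.apply_symm_apply]

theorem conj_stab {F : Type} [Field F] {n : ℕ} {E : Submodule F (Fin n → F)} (hE : finrank F E = 1) {s y : GL (Fin n) F}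
    (hline : ∀ W : Submodule F (Fin n → F), finrank F W = 1 →
      _root_.Cfsg.Agent.H951.Inv (Matrix.toLin' (s : Matrix (Fin n) (Fin n) F)) W → W = E)
    (h : y⁻¹ * s * y ∈ subspaceStabilizer E) : y ∈ subspaceStabilizer E := by
  have hinj : Function.Injective (Matrix.toLin' (y : Matrix (Fin n) (Fin n) F)) := by
    intro u v huv
    have h7 := congrArg (Matrix.toLin' ((y⁻¹ : GL (Fin n) F) : Matrix (Fin n) (Fin n) F)) huv
    rw [Matrix.toLin'_apply, Matrix.toLin'_apply, Matrix.toLin'_apply, Matrix.toLin'_apply, Matrix.mulVec_mulVec,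
      Matrix.mulVec_mulVec, ← Units.val_mul, inv_mul_cancel, Units.val_one, Matrix.one_mulVec, Matrix.one_mulVec] at h7
    exact h7
  have hW : E.map (Matrix.toLin' (y : Matrix (Fin n) (Fin n) F)) = E := by
    apply hline
    · rw [← hE]
      exact (Submodule.equivMapOfInjective _ hinj E).finrank_eq.symm
    · rintro _ ⟨v, hv, rfl⟩
      refine ⟨((y⁻¹ * s * y : GL (Fin n) F) : Matrix (Fin n) (Fin n) F) *ᵥ v, ((mem_subspaceStabilizer.1 h) v).1 hv, ?_⟩
      rw [Matrix.toLin'_apply, Matrix.toLin'_apply, Matrix.toLin'_apply, Matrix.mulVec_mulVec, Matrix.mulVec_mulVec,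
        ← Units.val_mul, ← Units.val_mul]
      congr 2
      group
  rw [mem_subspaceStabilizer]
  intro v
  constructor
  · intro hv
    rw [← hW]
    exact ⟨v, hv, rfl⟩
  · intro hv
    rw [← hW] at hv
    obtain ⟨w, hw, hwv⟩ := hv
    rwa [← hinj hwv]

theorem frame {D : Fin 4 → Submodule F4 (Fin 4 → F4)} (hD : IsNondegenerateMDecomposition (hermForm 4 F4 2) 1 D)
    (hg : g ∈ decompositionStabilizer D) : ∃ e : Equiv.Perm (Fin 4), ∀ i, D i = D₀ (e i) := by
  obtain ⟨σ, hσ⟩ := hg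
  rw [g_coe] at hσ
  have hmap : ∀ i, ∀ x ∈ D i, G *ᵥ x ∈ D (σ i) := by
    intro i x hx
    rw [← hσ i]
    exact ⟨x, hx, rfl⟩
  have key : ∀ i, ∃ j, D i = D₀ j := by
    intro i
    obtain ⟨x, hx0, hx⟩ := exists_gen (hD.decomp.finrank_eq i)
    have hxD : x ∈ D i := by rw [hx]; exact Submodule.mem_span_singleton_self x
    have hprop : ∀ y ∈ D i, ∃ t : F4, y = t • x := by
      intro y hy
      rw [hx] at hy
      obtain ⟨t, ht⟩ := Submodule.mem_span_singleton.1 hy
      exact ⟨t, ht.symm⟩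
    by_cases hi : σ i = i
    · have h1 := hmap i x hxD
      rw [hi] at h1
      obtain ⟨t, ht⟩ := hprop _ h1
      exact ⟨3, by rw [hx]; exact line hx0 ht⟩
    · have h1 : hermForm 4 F4 2 (G *ᵥ x) x = 0 := hD.orthogonal _ _ hi _ (hmap i x hxD) _ hxD
      have h2 : hermForm 4 F4 2 x x ≠ 0 := by
        intro h0
        obtain ⟨⟨y, hy, hy'⟩, -⟩ := hD.nondegenerate i x hxD hx0
        obtain ⟨t, rfl⟩ := hprop y hy
        apply hy'
        rw [herm_eq] at h0 ⊢
        simp only [Pi.smul_apply, smul_eq_mul]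
        linear_combination t * h0
      have h3 : hermForm 4 F4 2 (G *ᵥ (G *ᵥ x)) x = 0 ∨ ∃ t : F4, G *ᵥ (G *ᵥ x) = t • x := by
        by_cases hi2 : σ (σ i) = i
        · right
          have := hmap _ _ (hmap i x hxD)
          rw [hi2] at this
          exact hprop _ this
        · left
          exact hD.orthogonal _ _ hi2 _ (hmap _ _ (hmap i x hxD)) _ hxD
      rw [herm_eq] at h2
      rw [G_mulVec, herm_eq] at h1
      rw [G_mulVec, G_mulVec, herm_eq] at h3
      have h4 := frame_line (x 0) (x 1) (x 2) (x 3) h2 h1 (by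
        rcases h3 with h3 | ⟨t, h3⟩
        · exact Or.inl h3
        · exact Or.inr ⟨t, congrFun h3 0, congrFun h3 1, congrFun h3 2, congrFun h3 3⟩)
      rcases h4 with ⟨e1, e2, e3⟩ | ⟨e1, e2, e3⟩ | ⟨e1, e2, e3⟩
      · refine ⟨0, by rw [hx]; apply span_eq hx0; intro j hj; fin_cases j; exacts [absurd rfl hj, e1, e2, e3]⟩
      · refine ⟨1, by rw [hx]; apply span_eq hx0; intro j hj; fin_cases j; exacts [e1, absurd rfl hj, e2, e3]⟩
      · refine ⟨2, by rw [hx]; apply span_eq hx0; intro j hj; fin_cases j; exacts [e1, e2, absurd rfl hj, e3]⟩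
  choose τ hτ using key
  have hinj : Function.Injective τ := by
    intro i j hij
    by_contra hne
    have h1 : D i = D j := by rw [hτ i, hτ j, hij]
    have h2 := (hD.decomp.indep.pairwiseDisjoint hne)
    rw [Function.onFun, h1, disjoint_self] at h2
    have h3 := hD.decomp.finrank_eq j
    rw [h2, finrank_bot] at h3
    exact absurd h3 (by norm_num)
  exact ⟨Equiv.ofBijective τ (Finite.injective_iff_bijective.1 hinj), hτ⟩

/-- subfields with two elements -/
theorem subfield_two {F₀ : Subfield F4} (h : Fintype.card F4 = Nat.card F₀ ^ 2) {x : F4} (hx : x ∈ F₀) :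
    x = 0 ∨ x = 1 := by
  by_contra hcon
  push Not at hcon
  have h1 : Nat.card F₀ = 2 := by
    have h4 : Fintype.card F4 = 4 := rfl
    rw [h4] at h
    nlinarith only [h]
  have h2 : ({0, 1, x} : Finset F4).card = 3 := by
    rw [Finset.card_insert_of_notMem, Finset.card_pair hcon.2.symm]
    simp only [Finset.mem_insert, Finset.mem_singleton, not_or]
    exact ⟨zero_ne_one, hcon.1.symm⟩
  have h3 : (({0, 1, x} : Finset F4) : Set F4) ⊆ (F₀ : Set F4) := by
    intro y hy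
    simp only [Finset.coe_insert, Finset.coe_singleton, Set.mem_insert_iff, Set.mem_singleton_iff] at hy
    rcases hy with rfl | rfl | rfl
    · exact F₀.zero_mem
    · exact F₀.one_mem
    · exact hx
  have h4 := Set.ncard_le_ncard h3 (Set.toFinite _)
  rw [Set.ncard_coe_finset, h2] at h4
  have h5 : (F₀ : Set F4).ncard = Nat.card F₀ := rfl
  omega

theorem G_cube : G * G * G = !![.w, .z, .z, .z; .z, .w, .z, .z; .z, .z, .w, .z; .z, .z, .z, .o] := by decide +kernel

theorem not_subfield {F₀ : Subfield F4} (h : Fintype.card F4 = Nat.card F₀ ^ 2) {P : GL (Fin 4) F4}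
    (hg : g ∈ subfieldSubgroup F₀ P) : False := by
  obtain ⟨y, hy, hyg⟩ := hg
  have hyg' : P * y * P⁻¹ = g := hyg
  have hy' : y ∈ (Matrix.GeneralLinearGroup.map (F₀.subtype : F₀ →+* F4)).range ⊔ scalars (Fin 4) F4 := hy
  rw [Subgroup.mem_sup_of_normal_right] at hy'
  obtain ⟨_, ⟨x, rfl⟩, z, hz, hxz⟩ := hy'
  obtain ⟨c, hc⟩ := (mem_scalars_iff _).1 hz
  have hc3 : (c : F4) * (c * c) = 1 := by
    have h1 : ∀ t : F4, t ≠ 0 → t * (t * t) = 1 := by decide +kernel
    exact h1 _ c.ne_zero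
  set X : Matrix (Fin 4) (Fin 4) F4 := ((Matrix.GeneralLinearGroup.map (F₀.subtype : F₀ →+* F4) x : GL (Fin 4) F4) :
    Matrix (Fin 4) (Fin 4) F4) with hX
  have hyX : (y : Matrix (Fin 4) (Fin 4) F4) = (c : F4) • X := by
    rw [← hxz, Units.val_mul, hc, Matrix.mul_smul, mul_one]
  have h1 : Matrix.trace (G * G * G) = Matrix.trace (X * X * X) := by
    have h2 : G = (P : Matrix (Fin 4) (Fin 4) F4) * y * ((P⁻¹ : GL (Fin 4) F4) : Matrix (Fin 4) (Fin 4) F4) := by
      rw [← Units.val_mul, ← Units.val_mul, hyg', g_coe]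
    have h3 : G * G * G = (P : Matrix (Fin 4) (Fin 4) F4) * ((y : Matrix (Fin 4) (Fin 4) F4) * y * y) *
        ((P⁻¹ : GL (Fin 4) F4) : Matrix (Fin 4) (Fin 4) F4) := by
      have h4 : g * g * g = P * (y * y * y) * P⁻¹ := by
        rw [← hyg']
        group
      have h5 := congrArg (fun u : GL (Fin 4) F4 => (u : Matrix (Fin 4) (Fin 4) F4)) h4
      exact h5
    have h5 : ((c : F4) • X) * ((c : F4) • X) * ((c : F4) • X) = ((c : F4) * ((c : F4) * (c : F4))) • (X * X * X) := by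
      simp only [Matrix.smul_mul, Matrix.mul_smul, smul_smul]
    rw [h3, Matrix.trace_mul_comm, ← mul_assoc, ← Units.val_mul, inv_mul_cancel, Units.val_one, one_mul, hyX, h5, hc3,
      one_smul]
  have h2 : Matrix.trace (X * X * X) ∈ F₀ := by
    have h3 : ∀ i j, X i j ∈ F₀ := fun i j => ((x : Matrix (Fin 4) (Fin 4) F₀) i j).2
    have h4 : ∀ A B : Matrix (Fin 4) (Fin 4) F4, (∀ i j, A i j ∈ F₀) → (∀ i j, B i j ∈ F₀) → ∀ i j, (A * B) i j ∈ F₀ := by
      intro A B hA hB i j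
      rw [Matrix.mul_apply]
      exact Subfield.sum_mem _ fun k _ => F₀.mul_mem (hA _ _) (hB _ _)
    exact Subfield.sum_mem _ fun i _ => h4 _ _ (h4 _ _ h3 h3) h3 i i
  rw [← h1, G_cube] at h2
  rcases subfield_two h h2 with h3 | h3
  · revert h3; decide +kernel
  · revert h3; decide +kernel

theorem spr_two_aux (hR : ResList F4 2) : Spr (PSU 4 F4 2) := by
  have hE0 : D₀ 3 ≠ ⊥ := by
    rw [D₀, Ne, Submodule.span_singleton_eq_bot]
    exact (Pi.single_ne_zero_iff).2 one_ne_zero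
  have hfin : finrank F4 (D₀ 3) = 1 := finrank_span_singleton ((Pi.single_ne_zero_iff).2 one_ne_zero)
  have hET : D₀ 3 ≠ ⊤ := by
    intro h
    rw [h, finrank_top, finrank_fintype_fun_eq_card, Fintype.card_fin] at hfin
    omega
  have h1 : ¬ SUg 4 F4 2 ≤ subspaceStabilizer (D₀ 3) :=
    not_le_subspaceStabilizer (SUg_irreducible hF (by norm_num)) hE0 hET
  have hlineW : ∀ W : Submodule F4 (Fin 4 → F4), finrank F4 W = 1 → _root_.Cfsg.Agent.H951.Inv (Matrix.toLin' G) W → W = D₀ 3 := by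
    intro W hW hinv
    obtain ⟨x, hx0, rfl⟩ := exists_gen hW
    obtain ⟨t, ht⟩ := Submodule.mem_span_singleton.1 (hinv x (Submodule.mem_span_singleton_self x))
    rw [Matrix.toLin'_apply] at ht
    exact line hx0 ht.symm
  -- the overgroups
  have cover : ∀ H, IsMaximalIn (SUg 4 F4 2) H → g ∈ H → H ≤ subspaceStabilizer (D₀ 3) ∨
      (H ≤ decompositionStabilizer D₀ ∧ g ∈ decompositionStabilizer D₀ ∧ ¬ SUg 4 F4 2 ≤ decompositionStabilizer D₀) := by
    intro H hH hgH
    rcases Cfsg.Agent.S5784.result 2 hF H hH with h | h | h | h | h | h | h | h | h | h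
    · exfalso
      obtain ⟨W, hW0, hW, rfl⟩ := h
      obtain ⟨x, hx, hx0⟩ := (Submodule.ne_bot_iff _).1 hW0
      have hinv : ∀ y ∈ W, G *ᵥ y ∈ W := fun y hy => ((mem_subspaceStabilizer.1 hgH.1) y).1 hy
      have e1 := hW x hx x hx
      have e2 := hW _ (hinv _ hx) x hx
      have e3 := hW _ (hinv _ (hinv _ hx)) x hx
      have e4 := hW _ (hinv _ (hinv _ (hinv _ hx))) x hx
      rw [herm_eq] at e1
      rw [G_mulVec, herm_eq] at e2
      rw [G_mulVec, G_mulVec, herm_eq] at e3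
      rw [G_mulVec, G_mulVec, G_mulVec, herm_eq] at e4
      obtain ⟨z0, z1, z2, z3⟩ := ts_zero (x 0) (x 1) (x 2) (x 3) e1 e2 e3 e4
      apply hx0
      funext i
      fin_cases i
      exacts [z0, z1, z2, z3]
    · left
      obtain ⟨W, hW0, hW, hW2, rfl⟩ := h
      have hpos : 0 < finrank F4 W := by
        rw [Nat.pos_iff_ne_zero, Ne, Submodule.finrank_eq_zero]
        exact hW0
      rw [← hlineW W (by omega) ((GeoU.inv_of_mem hgH.1 :))]
      exact inf_le_left
    · right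
      obtain ⟨-, D, hD, rfl⟩ := h
      obtain ⟨e, he⟩ := frame hD hgH.1
      have h2 := dec_eq e he
      rw [h2] at hH hgH ⊢
      refine ⟨inf_le_left, hgH.1, fun h3 => ?_⟩
      have h4 := hH.1
      rw [inf_eq_right.2 h3] at h4
      exact lt_irrefl _ h4
    · omega
    · omega
    · exfalso
      obtain ⟨F₀, r', P, hr', hro, hcd, -, rfl⟩ := h
      have h4 : Fintype.card F4 = 4 := rfl
      rw [h4] at hcd
      have h5 : Nat.card F₀ ≤ 1 ∨ 2 ≤ Nat.card F₀ := by omega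
      rcases h5 with h5 | h5
      · have h6 : Nat.card F₀ ^ r' ≤ 1 := by
          calc Nat.card F₀ ^ r' ≤ 1 ^ r' := Nat.pow_le_pow_left h5 _
            _ = 1 := one_pow _
        omega
      · have h7 : 3 ≤ r' := by
          have := hr'.two_le
          obtain ⟨k, hk⟩ := hro
          omega
        have h6 : 2 ^ 3 ≤ Nat.card F₀ ^ r' :=
          (Nat.pow_le_pow_left h5 3).trans (Nat.pow_le_pow_right (by omega) h7)
        omega
    · obtain ⟨F₀, P, ζ, hcd, -, -, -, -, rfl⟩ := h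
      exact (not_subfield hcd hgH.1).elim
    · obtain ⟨h, -⟩ := h
      exact absurd h (by decide)
    · obtain ⟨p', R, -, h2, h3, -⟩ := h
      omega
    · obtain ⟨P, -, -, ⟨-, h⟩ | ⟨-, h⟩ | ⟨-, h⟩⟩ := hR H hH h
      · omega
      · omega
      · omega
  by_cases hex : ∃ H, IsMaximalIn (SUg 4 F4 2) H ∧ g ∈ H ∧ ¬ H ≤ subspaceStabilizer (D₀ 3)
  · obtain ⟨H, hH, hgH, hn⟩ := hex
    obtain ⟨-, hg2, h2⟩ := (cover H hH hgH).resolve_left hn
    refine spr_two_of hF (by norm_num) (by norm_num) g_mem h1 h2 (scalars_le_sub _) (scalars_le_dec _) hg2 ?_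
      fun H hH hgH => (cover H hH hgH).imp id fun h => h.1
    intro y hy hyg
    exact conj_stab hfin (s := g) hlineW hyg
  · push Not at hex
    exact spr_one_of hF (by norm_num) (by norm_num) g_mem h1 hex

/-- **`Spr (PSU_4(2))`** -/
theorem spr_two {F : Type} [Field F] [Fintype F] (hFc : Fintype.card F = 2 ^ 2) (hR : ResList F4 2) : Spr (PSU 4 F 2) := by
  obtain ⟨e⟩ : Nonempty (F4 ≃+* F) := ⟨FiniteField.ringEquivOfCardEq (by rw [hF, hFc])⟩
  exact Cfsg.Agent.H424.Spr.Spr.congr (FieldTransfer.psuCongr 4 2 e) (spr_two_aux hR)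

end Cfsg.Agent.H833.Spr4.Two
end

private theorem dce_39b853b20529 : _root_.True := by
  try have : _root_.True := by simp only [_root_.Cfsg.Agent.H833.Spr4.Two.D₀.eq_1]
  try have : _root_.True := by simp only [_root_.Cfsg.Agent.H833.Spr4.Two.G.eq_1]
  exact _root_.True.intro
end
end
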